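import Cfsg.Agent.PF.Defs
import Cfsg.Agent.PF3.Cyc

/-! Peterfalvi §3 (TI-subsets with cyclic normalisers). -/

set_option autoImplicit false
set_option maxSynthPendingDepth 3
set_option linter.unusedVariables false
set_option linter.unusedSectionVars false

namespace Cfsg.Agent.PF

open Cfsg.Agent.BG
open scoped Classical ComplexConjugate

variable {X : Type*} [Group X] [Finite X]
variable {G W1 W2 : Subgroup X} {φ ψ χ : X → ℂ} {g v x y : X}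

/-! ### The linear characters `om` of a direct product -/

section om
variable (hc : W2 ≤ C[W1]) (hi : W1 ⊓ W2 = ⊥)
include hc hi

theorem dprod_sup : Dprod W1 W2 (W1 ⊔ W2) := ⟨rfl, hc, hi⟩

theorem om_eq_lin (i : Dual W1) (j : Dual W2) :
    om W1 W2 i j = lin (PF3.om (dprod_sup hc hi) i j) := by
  have hd := dprod_sup hc hi
  ext g
  by_cases hg : g ∈ W1 ⊔ W2
  · obtain ⟨x, hx, y, hy, rfl⟩ := PF3.dprod_mem hd hg
    rw [PF3.lin_om hd _ _ hx hy, om, Finset.sum_eq_single x]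
    · rw [inv_mul_cancel_left]
    · intro a ha hax
      rw [lin_of_not_mem j, mul_zero]
      rw [← mul_assoc, W2.mul_mem_cancel_right hy]
      intro h2
      exact hax (inv_mul_eq_one.1 (PF3.dprod_eq_one hd
        (W1.mul_mem (W1.inv_mem (by simpa using ha)) hx) h2))
    · intro h; exact absurd (by simpa using hx) h
  · rw [lin_of_not_mem _ hg, om]
    refine Finset.sum_eq_zero fun a ha => ?_
    rw [lin_of_not_mem j, mul_zero]
    intro h2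
    apply hg
    have := Subgroup.mul_mem_sup (show a ∈ W1 by simpa using ha) h2
    rwa [mul_inv_cancel_left] at this

theorem om_mul (i : Dual W1) (j : Dual W2) (hx : x ∈ W1) (hy : y ∈ W2) :
    om W1 W2 i j (x * y) = lin i x * lin j y := by
  rw [om_eq_lin hc hi, PF3.lin_om _ _ _ hx hy]

theorem om_left (i : Dual W1) (j : Dual W2) (hx : x ∈ W1) : om W1 W2 i j x = lin i x := by
  rw [om_eq_lin hc hi, PF3.lin_om_left _ _ _ hx]

theorem om_right (i : Dual W1) (j : Dual W2) (hy : y ∈ W2) : om W1 W2 i j y = lin j y := by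
  rw [om_eq_lin hc hi, PF3.lin_om_right _ _ _ hy]

theorem om_comm (i : Dual W1) (j : Dual W2) : om W2 W1 j i = om W1 W2 i j := by
  have hc' := cents_symm hc
  have hi' : W2 ⊓ W1 = ⊥ := by rw [inf_comm, hi]
  ext g
  by_cases hg : g ∈ W1 ⊔ W2
  · obtain ⟨x, hx, y, hy, rfl⟩ := PF3.dprod_mem (dprod_sup hc hi) hg
    rw [om_mul hc hi _ _ hx hy, PF3.dprod_comm (dprod_sup hc hi) hx hy, om_mul hc' hi' _ _ hy hx,
      mul_comm]
  · rw [om_eq_lin hc hi, om_eq_lin hc' hi', lin_of_not_mem _ hg,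
      lin_of_not_mem _ (by rwa [sup_comm])]

theorem om_exists_lin (i : Dual W1) (j : Dual W2) :
    ∃ l : Dual (W1 ⊔ W2), om W1 W2 i j = lin l := ⟨_, om_eq_lin hc hi i j⟩

theorem lin_eq_om (l : Dual (W1 ⊔ W2)) :
    lin l = om W1 W2 (resD le_sup_left l) (resD le_sup_right l) := by
  rw [om_eq_lin hc hi]; exact congrArg lin (PF3.om_resD (dprod_sup hc hi) l).symm

theorem om_mem_Irr (i : Dual W1) (j : Dual W2) : om W1 W2 i j ∈ Irr (W1 ⊔ W2) := by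
  rw [om_eq_lin hc hi]; exact lin_mem_Irr _

theorem om_apply_one (i : Dual W1) (j : Dual W2) : om W1 W2 i j 1 = 1 := by
  rw [om_eq_lin hc hi, lin_apply_one]

theorem om_inj {i i' : Dual W1} {j j' : Dual W2} :
    om W1 W2 i j = om W1 W2 i' j' ↔ i = i' ∧ j = j' := by
  rw [om_eq_lin hc hi, om_eq_lin hc hi, lin_inj, PF3.om_inj]

theorem dot_om (i i' : Dual W1) (j j' : Dual W2) :
    dot (W1 ⊔ W2) (om W1 W2 i j) (om W1 W2 i' j') = if i = i' ∧ j = j' then 1 else 0 := by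
  rw [om_eq_lin hc hi, om_eq_lin hc hi, PF3.dot_om]

theorem om_one_one : om W1 W2 1 1 = one (W1 ⊔ W2) := by
  rw [om_eq_lin hc hi, PF3.om_one, lin_one]

theorem om_mul_om (i i' : Dual W1) (j j' : Dual W2) :
    om W1 W2 (i * i') (j * j') = om W1 W2 i j * om W1 W2 i' j' := by
  simp only [om_eq_lin hc hi, PF3.om_mul, lin_mul]

theorem om_aut (u : ℂ →+* ℂ) (i : Dual W1) (j : Dual W2) :
    aut u (om W1 W2 i j) = om W1 W2 (autD u i) (autD u j) := by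
  simp only [om_eq_lin hc hi, ← PF3.autD_om, lin_autD]

theorem om_star (i : Dual W1) (j : Dual W2) : star (om W1 W2 i j) = om W1 W2 i⁻¹ j⁻¹ := by
  simp only [om_eq_lin hc hi, PF3.om_inv, lin_inv]

theorem Res_om_left (i : Dual W1) (j : Dual W2) : Res W1 (om W1 W2 i j) = lin i := by
  rw [om_eq_lin hc hi, PF3.Res_lin_om_left]

theorem Res_om_right (i : Dual W1) (j : Dual W2) : Res W2 (om W1 W2 i j) = lin j := by
  rw [om_eq_lin hc hi, PF3.Res_lin_om_right]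

theorem eta_comm (G : Subgroup X) (i : Dual W1) (j : Dual W2) :
    eta G W2 W1 j i = eta G W1 W2 i j := by
  unfold eta
  rw [om_comm hc hi, cycV_comm]

theorem NC_comm (G : Subgroup X) (φ : X → ℂ) : NC G W2 W1 φ = NC G W1 W2 φ := by
  unfold NC
  exact Finset.card_equiv (Equiv.prodComm _ _) fun p => by simp [eta_comm hc hi]

end om

/-! ### Hypothesis (3.1) -/

variable (h : CyclicTI G W1 W2)
include h

theorem CyclicTI.cycTI : PF3.CycTI G (W1 ⊔ W2) W1 W2 := ⟨h.dprod, h.cyclic, h.odd, h.ti⟩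

omit h in
theorem isDirr_iff_dirr {H : Subgroup X} : IsDirr H φ ↔ PF3.Dirr H φ := PF3.dirr_iff.symm

theorem CyclicTI.om_eq (i : Dual W1) (j : Dual W2) :
    om W1 W2 i j = lin (PF3.om h.cycTI.dprod i j) := om_eq_lin h.cent h.inf i j

theorem CyclicTI.eta_eq (i : Dual W1) (j : Dual W2) : eta G W1 W2 i j = h.cycTI.eta i j := by
  have hex : ∃ φ, IsDirr G φ ∧ ∀ v ∈ cycV W1 W2, φ v = om W1 W2 i j v :=
    ⟨_, isDirr_iff_dirr.2 (h.cycTI.eta_dirr i j), fun v hv => by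
      rw [h.om_eq]; exact h.cycTI.eta_restrict i j hv⟩
  rw [eta, dif_pos hex]
  exact h.cycTI.eq_et (isDirr_iff_dirr.1 hex.choose_spec.1) fun v hv => by
    rw [hex.choose_spec.2 v hv, h.om_eq]

theorem CyclicTI.cycIso_eq : cycIso G W1 W2 = h.cycTI.sigma := by
  refine LinearMap.ext fun φ => ?_
  rw [cycIso_apply, h.cycTI.sigma_eq_sum_eta]
  simp only [h.eta_eq, h.om_eq]

theorem CyclicTI.NC_eq (φ : X → ℂ) : NC G W1 W2 φ = h.cycTI.NC φ := by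
  simp only [NC, h.eta_eq]; rfl

theorem CyclicTI.alpha_eq (i : Dual W1) (j : Dual W2) :
    om W1 W2 1 1 - om W1 W2 i 1 - om W1 W2 1 j + om W1 W2 i j = PF3.alpha h.cycTI.dprod i j := by
  simp only [h.om_eq, PF3.om_one, lin_one]; rfl

theorem CyclicTI.le : W1 ⊔ W2 ≤ G := h.cycTI.le
theorem CyclicTI.abelian : IsMulCommutative ↥(W1 ⊔ W2) := h.cycTI.comm
theorem CyclicTI.cyc1 : IsCyclic W1 := h.cycTI.cyc₁
theorem CyclicTI.cyc2 : IsCyclic W2 := h.cycTI.cyc₂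
theorem CyclicTI.odd1 : Odd #W1 := h.cycTI.odd₁
theorem CyclicTI.odd2 : Odd #W2 := h.cycTI.odd₂
theorem CyclicTI.ne1 : W1 ≠ ⊥ := h.cycTI.ne_bot₁
theorem CyclicTI.ne2 : W2 ≠ ⊥ := h.cycTI.ne_bot₂
theorem CyclicTI.two_lt1 : 2 < #W1 := h.cycTI.three_le₁
theorem CyclicTI.two_lt2 : 2 < #W2 := h.cycTI.three_le₂
theorem CyclicTI.coprime : (#W1).Coprime #W2 := h.cycTI.coprime
theorem CyclicTI.card_ne : #W1 ≠ #W2 := h.cycTI.card_ne
theorem CyclicTI.card_sup : #(W1 ⊔ W2) = #W1 * #W2 := h.dprod.card.symm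
theorem CyclicTI.card_V : (cycV W1 W2).ncard = (#W1 - 1) * (#W2 - 1) := h.cycTI.ncard_V
theorem CyclicTI.card_Dual1 : Fintype.card (Dual W1) = #W1 := h.cycTI.card_Dual₁
theorem CyclicTI.card_Dual2 : Fintype.card (Dual W2) = #W2 := h.cycTI.card_Dual₂
theorem CyclicTI.exists_ne1 : ∃ i : Dual W1, i ≠ 1 := h.cycTI.exists_ne_one₁
theorem CyclicTI.exists_ne2 : ∃ j : Dual W2, j ≠ 1 := h.cycTI.exists_ne_one₂
theorem CyclicTI.inv_ne1 {i : Dual W1} (hi : i ≠ 1) : i⁻¹ ≠ i := h.cycTI.inv_ne₁ hi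
theorem CyclicTI.inv_ne2 {j : Dual W2} (hj : j ≠ 1) : j⁻¹ ≠ j := h.cycTI.inv_ne₂ hj
theorem CyclicTI.cent_V (hv : v ∈ cycV W1 W2) : G ⊓ C1[v] = W1 ⊔ W2 := h.cycTI.cent1_eq hv
theorem CyclicTI.restrict {H : Subgroup X} (hW : W1 ⊔ W2 ≤ H) (hH : H ≤ G) :
    CyclicTI H W1 W2 :=
  ⟨h.cent, h.inf, h.cyclic, h.odd, h.ti.subl hW hH⟩

theorem CyclicTI.exists_om (hχ : χ ∈ Irr (W1 ⊔ W2)) : ∃ i j, χ = om W1 W2 i j := by
  obtain ⟨l, rfl⟩ := Irr_exists_lin_of_comm hχ h.abelian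
  exact ⟨_, _, lin_eq_om h.cent h.inf l⟩

theorem CyclicTI.eq_sum_om (hφ : φ ∈ CF (W1 ⊔ W2)) :
    φ = ∑ i, ∑ j, dot (W1 ⊔ W2) φ (om W1 W2 i j) • om W1 W2 i j := by
  simp only [h.om_eq]
  rw [← PF3.sum_om h.cycTI.dprod fun l => dot (W1 ⊔ W2) φ (lin l) • lin l]
  exact PF3.CF_eq_sum_lin h.abelian hφ

/-- (3.4): `α_{ij}` is supported on `V`. -/
theorem cfCycTI_on (i : Dual W1) (j : Dual W2) :
    om W1 W2 1 1 - om W1 W2 i 1 - om W1 W2 1 j + om W1 W2 i j ∈ CFon (W1 ⊔ W2) (cycV W1 W2) := by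
  rw [h.alpha_eq]; exact PF3.alpha_mem_CFon _ i j

/-! ### Theorem (3.2) -/

theorem cycTIiso_dirr (i : Dual W1) (j : Dual W2) : IsDirr G (eta G W1 W2 i j) := by
  rw [h.eta_eq]; exact isDirr_iff_dirr.2 (h.cycTI.eta_dirr i j)

theorem cycTIiso_vchar (i : Dual W1) (j : Dual W2) : eta G W1 W2 i j ∈ ZIrr G := by
  rw [h.eta_eq]; exact h.cycTI.eta_ZIrr i j

theorem cycTIiso_CF (i : Dual W1) (j : Dual W2) : eta G W1 W2 i j ∈ CF G := by
  rw [h.eta_eq]; exact h.cycTI.eta_CF i j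

theorem cfdot_cycTIiso (i i' : Dual W1) (j j' : Dual W2) :
    dot G (eta G W1 W2 i j) (eta G W1 W2 i' j') = if i = i' ∧ j = j' then 1 else 0 := by
  rw [h.eta_eq, h.eta_eq, h.cycTI.dot_eta]

theorem cfnorm_cycTIiso (i : Dual W1) (j : Dual W2) : nrm G (eta G W1 W2 i j) = 1 := by
  rw [h.eta_eq]; exact h.cycTI.nrm_eta i j

theorem cycTIiso_eqE {i i' : Dual W1} {j j' : Dual W2} :
    eta G W1 W2 i j = eta G W1 W2 i' j' ↔ i = i' ∧ j = j' := by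
  rw [h.eta_eq, h.eta_eq, h.cycTI.eta_inj]

theorem cycTIiso_neqN (i i' : Dual W1) (j j' : Dual W2) :
    eta G W1 W2 i j ≠ -eta G W1 W2 i' j' := by
  rw [h.eta_eq, h.eta_eq]; exact h.cycTI.eta_ne_neg _ _ _ _

/-- (3.2)(b) -/
theorem cycTIiso1 : eta G W1 W2 1 1 = one G := by
  rw [h.eta_eq, h.cycTI.eta_one]

theorem dot_eta_one (i : Dual W1) (j : Dual W2) :
    dot G (eta G W1 W2 i j) (one G) = if i = 1 ∧ j = 1 then 1 else 0 := by
  rw [← cycTIiso1 h, cfdot_cycTIiso h]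

/-- (3.2)(c) -/
theorem eta_apply_V (i : Dual W1) (j : Dual W2) (hv : v ∈ cycV W1 W2) :
    eta G W1 W2 i j v = om W1 W2 i j v := by
  rw [h.eta_eq, h.om_eq]; exact h.cycTI.eta_restrict i j hv

theorem cycIso_om (i : Dual W1) (j : Dual W2) :
    cycIso G W1 W2 (om W1 W2 i j) = eta G W1 W2 i j := by
  rw [h.cycIso_eq, h.eta_eq, h.om_eq, h.cycTI.sigma_om]

theorem cycTIiso_restrict (hφ : φ ∈ CF (W1 ⊔ W2)) (hv : v ∈ cycV W1 W2) :
    cycIso G W1 W2 φ v = φ v := by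
  rw [h.cycIso_eq]; exact h.cycTI.sigma_restrict hφ hv

theorem cycTI_Zisometry : IsoOn (W1 ⊔ W2) G (ZIrr (W1 ⊔ W2)) (cycIso G W1 W2) := by
  rw [h.cycIso_eq]
  exact ⟨fun φ _ ψ hψ => h.cycTI.dot_sigma φ (ZIrr_CF hψ), fun φ hφ => h.cycTI.sigma_ZIrr hφ⟩

theorem dot_cycIso (hφ : φ ∈ CF (W1 ⊔ W2)) (hψ : ψ ∈ CF (W1 ⊔ W2)) :
    dot G (cycIso G W1 W2 φ) (cycIso G W1 W2 ψ) = dot (W1 ⊔ W2) φ ψ := by
  rw [h.cycIso_eq]; exact h.cycTI.dot_sigma φ hψ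

/-- (3.2)(a) -/
theorem cycTIiso_Ind (hφ : φ ∈ CFon (W1 ⊔ W2) (cycV W1 W2)) :
    cycIso G W1 W2 φ = Ind (W1 ⊔ W2) G φ := by
  rw [h.cycIso_eq]; exact h.cycTI.sigma_Ind hφ

/-- (3.5) -/
theorem Ind_cfCycTI (i : Dual W1) (j : Dual W2) :
    Ind (W1 ⊔ W2) G (om W1 W2 1 1 - om W1 W2 i 1 - om W1 W2 1 j + om W1 W2 i j) =
      eta G W1 W2 1 1 - eta G W1 W2 i 1 - eta G W1 W2 1 j + eta G W1 W2 i j := by
  rw [h.alpha_eq, cycTIiso1 h]
  simp only [h.eta_eq]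
  exact h.cycTI.Ind_alpha i j

/-- (3.2)(d) -/
theorem ortho_cycTIiso_vanish (hψ : ConjInv G ψ) (ho : ∀ i j, dot G ψ (eta G W1 W2 i j) = 0)
    (hv : v ∈ cycV W1 W2) : ψ v = 0 := by
  simp only [h.eta_eq] at ho
  exact h.cycTI.vanish_of_orth_eta hψ ho hv

/-- A class function agrees on `V` with its projection on the span of the `η_{ij}`. -/
theorem proj_cycTIiso_apply (hψ : ConjInv G ψ) (hv : v ∈ cycV W1 W2) :
    ψ v = ∑ i, ∑ j, dot G ψ (eta G W1 W2 i j) * om W1 W2 i j v := by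
  simp only [h.eta_eq, h.om_eq]
  rw [h.cycTI.apply_eq_sum hψ hv, PF3.sum_om h.cycTI.dprod]; rfl

/-- Bessel's inequality for the `η_{ij}`. -/
theorem sum_sq_dot_eta_le (ψ : X → ℂ) :
    ∑ i, ∑ j, ‖dot G ψ (eta G W1 W2 i j)‖ ^ 2 ≤ nrm G ψ := by
  rw [← Fintype.sum_prod_type']
  refine PF3.bessel _ (fun p : Dual W1 × Dual W2 => eta G W1 W2 p.1 p.2)
    (fun p _ => cfnorm_cycTIiso h _ _) (fun p _ q _ hpq => ?_) ψ
  rw [cfdot_cycTIiso h, if_neg fun e => hpq (Prod.ext e.1 e.2)]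

/-- (3.7) -/
theorem cycTIiso_cfdot_exchange (hψ : ConjInv G ψ) (h0 : ∀ v ∈ cycV W1 W2, ψ v = 0)
    (i i' : Dual W1) (j j' : Dual W2) :
    dot G ψ (eta G W1 W2 i j) + dot G ψ (eta G W1 W2 i' j') =
      dot G ψ (eta G W1 W2 i j') + dot G ψ (eta G W1 W2 i' j) := by
  simp only [h.eta_eq]; exact h.cycTI.dot_exchange hψ h0 i i' j j'

/-! ### `NC` and (3.8) -/

theorem cycTI_NC_norm (hψ : ψ ∈ ZIrr G) : (NC G W1 W2 ψ : ℝ) ≤ nrm G ψ := by
  rw [h.NC_eq]; exact h.cycTI.NC_le_nrm hψ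

theorem cycTI_NC_dirr (hψ : IsDirr G ψ) : NC G W1 W2 ψ ≤ 1 := by
  rw [h.NC_eq]; exact h.cycTI.NC_dirr (isDirr_iff_dirr.1 hψ)

theorem cycTI_NC_eta (i : Dual W1) (j : Dual W2) : NC G W1 W2 (eta G W1 W2 i j) = 1 := by
  rw [h.NC_eq, h.eta_eq]; exact h.cycTI.NC_eta i j

omit h in
theorem cycTI_NC_add (φ ψ : X → ℂ) : NC G W1 W2 (φ + ψ) ≤ NC G W1 W2 φ + NC G W1 W2 ψ := by
  refine le_trans (Finset.card_le_card fun p hp => ?_) (Finset.card_union_le _ _)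
  simp only [Finset.mem_filter, Finset.mem_univ, true_and, Finset.mem_union, dot_add_left] at hp ⊢
  by_contra hn
  push Not at hn
  exact hp (by rw [hn.1, hn.2, add_zero])

omit h in
theorem cycTI_NC_sub (φ ψ : X → ℂ) : NC G W1 W2 (φ - ψ) ≤ NC G W1 W2 φ + NC G W1 W2 ψ := by
  have := cycTI_NC_add (G := G) (W1 := W1) (W2 := W2) φ (-ψ)
  simpa [NC, dot_neg_left, sub_eq_add_neg] using this

omit h in
theorem cycTI_NC_neg (φ : X → ℂ) : NC G W1 W2 (-φ) = NC G W1 W2 φ := by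
  simp [NC, dot_neg_left]

omit h in
theorem cycTI_NC_smul (c : ℂ) (φ : X → ℂ) : NC G W1 W2 (c • φ) ≤ NC G W1 W2 φ :=
  Finset.card_le_card fun p hp => by
    simp only [Finset.mem_filter, Finset.mem_univ, true_and, dot_smul_left] at hp ⊢
    exact right_ne_zero_of_mul hp

omit h in
theorem cycTI_NC_eq_zero : NC G W1 W2 φ = 0 ↔ ∀ i j, dot G φ (eta G W1 W2 i j) = 0 := by
  simp [NC, Finset.filter_eq_empty_iff]

/-- (3.8) -/
theorem small_cycTI_NC (hψ : ConjInv G ψ) (h0 : ∀ v ∈ cycV W1 W2, ψ v = 0)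
    (hlt : NC G W1 W2 ψ < 2 * min #W1 #W2) {i0 : Dual W1} {j0 : Dual W2}
    (ha : dot G ψ (eta G W1 W2 i0 j0) ≠ 0) :
    (∀ i j, dot G ψ (eta G W1 W2 i j) = if j = j0 then dot G ψ (eta G W1 W2 i0 j0) else 0) ∨
      ∀ i j, dot G ψ (eta G W1 W2 i j) = if i = i0 then dot G ψ (eta G W1 W2 i0 j0) else 0 := by
  simp only [h.eta_eq, h.NC_eq] at *
  exact h.cycTI.small_NC hψ h0 hlt ha

theorem cycTI_NC_minn (hψ : ConjInv G ψ) (h0 : ∀ v ∈ cycV W1 W2, ψ v = 0)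
    (hpos : 0 < NC G W1 W2 ψ) : min #W1 #W2 ≤ NC G W1 W2 ψ := by
  simp only [h.NC_eq] at *
  exact h.cycTI.NC_minn hψ h0 hpos

/-- A virtual character of norm at most `2` vanishing on `V` is orthogonal to all `η_{ij}`. -/
theorem ortho_eta_of_NC_le (hψ : ConjInv G ψ) (h0 : ∀ v ∈ cycV W1 W2, ψ v = 0)
    (hle : NC G W1 W2 ψ ≤ 2) (i : Dual W1) (j : Dual W2) : dot G ψ (eta G W1 W2 i j) = 0 := by
  simp only [h.eta_eq, h.NC_eq] at *
  exact h.cycTI.dot_eta_eq_zero_of_NC_le hψ h0 hle i j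

/-- (3.9)(a) -/
theorem eq_in_cycTIiso (hφ : IsDirr G φ) {i : Dual W1} {j : Dual W2}
    (he : ∀ v ∈ cycV W1 W2, φ v = om W1 W2 i j v) : φ = eta G W1 W2 i j := by
  simp only [h.eta_eq, h.om_eq] at *
  exact h.cycTI.eq_et (isDirr_iff_dirr.1 hφ) he

theorem eq_signed_sub_cTIiso (hφ : φ ∈ ZIrr G) (hn : nrm G φ = 2) {ε : ℤ} (hε : ε = 1 ∨ ε = -1)
    {i : Dual W1} {j1 j2 : Dual W2} (hj : j1 ≠ j2)
    (he : ∀ v ∈ cycV W1 W2, φ v = ε * (om W1 W2 i j1 v - om W1 W2 i j2 v)) :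
    φ = (ε : ℂ) • (eta G W1 W2 i j1 - eta G W1 W2 i j2) := by
  simp only [h.eta_eq]
  refine h.cycTI.eq_signed_sub hφ hn hε hj fun v hv => ?_
  rw [he v hv, ← h.eta_eq, ← h.eta_eq, eta_apply_V h _ _ hv, eta_apply_V h _ _ hv]

theorem cfAut_cycTIiso (u : ℂ →+* ℂ) (i : Dual W1) (j : Dual W2) :
    aut u (eta G W1 W2 i j) = eta G W1 W2 (autD u i) (autD u j) := by
  simp only [h.eta_eq]; exact h.cycTI.aut_eta u i j

theorem star_eta (i : Dual W1) (j : Dual W2) :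
    star (eta G W1 W2 i j) = eta G W1 W2 i⁻¹ j⁻¹ := by
  simp only [h.eta_eq]; exact h.cycTI.star_eta i j

/-- (3.9)(b) -/
theorem cycTIiso_aut_exists (i : Dual W1) (j : Dual W2) {k : ℕ}
    (hk : k.Coprime (orderOf i * orderOf j)) :
    (∃ u : ℂ →+* ℂ, autD u i = i ^ k ∧ autD u j = j ^ k) ∧
      ∀ x : X, (orderOf x).Coprime (orderOf i * orderOf j) →
        eta G W1 W2 (i ^ k) (j ^ k) x = eta G W1 W2 i j x := by
  have ha : orderOf i * orderOf j ≠ 0 := mul_ne_zero (orderOf_pos i).ne' (orderOf_pos j).ne'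
  have h1 : i ^ (orderOf i * orderOf j) = 1 := by rw [pow_mul, pow_orderOf_eq_one, one_pow]
  have h2 : j ^ (orderOf i * orderOf j) = 1 := by
    rw [mul_comm, pow_mul, pow_orderOf_eq_one, one_pow]
  obtain ⟨u, hu, -⟩ := PF3.exists_aut_pow_fix one_ne_zero ha hk
  refine ⟨⟨u, PF3.autD_eq_pow hu h1, PF3.autD_eq_pow hu h2⟩, fun x hx => ?_⟩
  simp only [h.eta_eq, PF3.CycTI.eta_def, PF3.om_pow]
  exact h.cycTI.et_pow_apply ha (by rw [← PF3.om_pow, h1, h2, PF3.om_one]) hk hx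

/-- (3.9)(c) -/
theorem Cint_cycTIiso_coprime (i : Dual W1) (j : Dual W2)
    (hx : (orderOf x).Coprime (orderOf i * orderOf j)) : ∃ n : ℤ, eta G W1 W2 i j x = n := by
  have ha : orderOf i * orderOf j ≠ 0 := mul_ne_zero (orderOf_pos i).ne' (orderOf_pos j).ne'
  have h1 : i ^ (orderOf i * orderOf j) = 1 := by rw [pow_mul, pow_orderOf_eq_one, one_pow]
  have h2 : j ^ (orderOf i * orderOf j) = 1 := by
    rw [mul_comm, pow_mul, pow_orderOf_eq_one, one_pow]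
  rw [h.eta_eq]
  exact h.cycTI.et_apply_int ha (by rw [← PF3.om_pow, h1, h2, PF3.om_one]) hx

/-- For `|W₂|` prime the non-trivial `j` are Galois conjugate, by automorphisms fixing every `i`
and all character values on elements of order prime to `|W₂|`. -/
theorem cfExp_prime_transitive (hp : (#W2).Prime) {j k : Dual W2} (hj : j ≠ 1) (hk : k ≠ 1) :
    ∃ u : ℂ →+* ℂ, autD u j = k ∧ (∀ i : Dual W1, autD u i = i) ∧
      ∀ (H : Subgroup X), ∀ χ ∈ ZIrr H, ∀ x : X, (orderOf x).Coprime #W2 → u (χ x) = χ x := by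
  have hD : Nat.card (Dual W2) = #W2 := card_Dual h.cycTI.comm₂
  haveI : Fact (#W2).Prime := ⟨hp⟩
  obtain ⟨n, rfl⟩ : ∃ n : ℕ, j ^ n = k :=
    mem_powers_iff_mem_zpowers.2 (mem_zpowers_of_prime_card hD hj)
  have hj1 : j ^ #W2 = 1 := by rw [← hD]; exact pow_card_eq_one'
  have hn : n.Coprime #W2 := by
    rw [Nat.coprime_comm, hp.coprime_iff_not_dvd]
    rintro ⟨m, rfl⟩
    exact hk (by rw [pow_mul, hj1, one_pow])
  obtain ⟨u, hu1, hu2⟩ := PF3.exists_aut_pow_fix (Nat.card_pos (α := X)).ne' hp.ne_zero hn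
  refine ⟨u, PF3.autD_eq_pow hu1 hj1, fun i => ?_,
    fun H χ hχ x hx => PF3.aut_fix_of_coprime hu2 hχ hx⟩
  rw [PF3.autD_eq_pow (a := #W1) (k := 1) (fun ζ hζ => by
    rw [hu2 _ (Subgroup.card_subgroup_dvd_card W1) h.coprime ζ hζ, pow_one])
    (by rw [← card_Dual h.cycTI.comm₁]; exact pow_card_eq_one'), pow_one]

end Cfsg.Agent.PF
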