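import Cfsg.Agent.PF.P00
import Cfsg.Agent.PF.P02
import Cfsg.Agent.PF.P04
import Cfsg.Agent.PF.P05a
import Cfsg.Agent.PF.P05b
import Cfsg.Agent.PF.P03

/-! Peterfalvi (5.3)(b), (5.8), (5.9): coherence for the Dade isometry. -/

set_option autoImplicit false
set_option maxSynthPendingDepth 3
set_option linter.unusedVariables false
set_option linter.unusedSectionVars false

namespace Cfsg.Agent.PF

open Cfsg.Agent.BG
open scoped _root_.Classical ComplexConjugate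

variable {X : Type*} [Group X] [Finite X]
variable {L K H M W1 W2 : Subgroup X} {A A0 : Set X} {R : X → Subgroup X} {S S1 : Finset (X → ℂ)}
  {ν : (X → ℂ) →ₗ[ℂ] (X → ℂ)} {χ ψ φ : X → ℂ}

/-- The Dade map is an isometry on `ℤ[S, L^#]` for characters induced from a normal subgroup `K`
with `K^# ⊆ A`. -/
theorem Dade_seqInd_iso (hD : DadeHypothesis A L R) (hK : K ⊴ L) (hA : K^# ⊆ A)
    (hS : S ⊆ seqIndT K L) : IsoOn L ⊤ (ZS1 S) (dade A L R) := Dade_isoOn hD fun φ hφ =>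
    ⟨seqInd_ZS_vchar hK hS (ZS1_le hφ), CFon_mono hA (seqInd_ZS1_on hK hS hφ)⟩

theorem OrthoN.dot_eq_zero_of_sum {G : Subgroup X} {T : Finset (X → ℂ)} (h : OrthoN G T)
    (hT : ∀ α ∈ T, IsDirr G α) (hψ : IsDirr G ψ) (h0 : dot G (∑ α ∈ T, α) ψ = 0) (hφ : φ ∈ T) :
    dot G φ ψ = 0 := by
  by_contra hne
  have := h.dot_sum_one subset_rfl hφ
  rw [if_pos hφ] at this
  rcases (hT φ hφ).eq_or_neg_of_dot_ne_zero hψ hne with rfl | rfl
  · exact one_ne_zero (this.symm.trans h0)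
  · rw [dot_neg_right, h0, neg_zero] at this
    exact zero_ne_one this

theorem PrimeTI.vanish_V (h : PrimeTI L K W1 W2) (hφ : φ ∈ CFon L K) {v : X}
    (hv : v ∈ cycV W1 W2) : φ v = 0 :=
  (mem_CFon.1 hφ).2 v fun hK => (mem_cycV.1 hv).2.2 (h.inf_W ▸ ⟨hK, (mem_cycV.1 hv).1⟩)

section Rmu
variable {G : Subgroup X} (h : CyclicTI G W1 W2) {d : ℤ} (hd : d = 1 ∨ d = -1) {j k : Dual W2}
include h hd

omit h in
theorem sign_conj_mul : conj (d : ℂ) * d = 1 := by rcases hd with rfl | rfl <;> simp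

theorem eta_col_inj (j : Dual W2) : Function.Injective fun i => (d : ℂ) • eta G W1 W2 i j := by
  intro i i' e
  have h0 : (d : ℂ) ≠ 0 := by rcases hd with rfl | rfl <;> simp
  exact ((cycTIiso_eqE h).1 (smul_right_injective _ h0 e)).1

theorem sum_eta_col (j : Dual W2) :
    ∑ α ∈ Finset.univ.image (fun i => (d : ℂ) • eta G W1 W2 i j), α =
      (d : ℂ) • ∑ i, eta G W1 W2 i j := by
  rw [Finset.sum_image fun _ _ _ _ e => eta_col_inj h hd j e, Finset.smul_sum]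

theorem sum_neg_eta_col (j : Dual W2) :
    ∑ α ∈ Finset.univ.image (fun i => -((d : ℂ) • eta G W1 W2 i j)), α =
      -((d : ℂ) • ∑ i, eta G W1 W2 i j) := by
  rw [Finset.sum_image fun _ _ _ _ e => eta_col_inj h hd j (neg_injective e), Finset.smul_sum,
    Finset.sum_neg_distrib]

omit hd in
theorem dot_eta_cols {c : ℂ} {α : X → ℂ} {j' : Dual W2}
    (hα : α ∈ Finset.univ.image (fun i => c • eta G W1 W2 i j) ∪
      Finset.univ.image (fun i => -(c • eta G W1 W2 i j'))) (h1 : j ≠ k) (h2 : j' ≠ k)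
    (i : Dual W1) : dot G α (eta G W1 W2 i k) = 0 := by
  simp only [Finset.mem_union, Finset.mem_image, Finset.mem_univ, true_and] at hα
  rcases hα with ⟨i', rfl⟩ | ⟨i', rfl⟩
  · rw [dot_smul_left, cfdot_cycTIiso h, if_neg fun e => h1 e.2, mul_zero]
  · rw [dot_neg_left, dot_smul_left, cfdot_cycTIiso h, if_neg fun e => h2 e.2, mul_zero, neg_zero]

omit h hd in
theorem dot_eta_cols_right {c : ℂ} {α β : X → ℂ} {j' : Dual W2}
    (hβ : β ∈ Finset.univ.image (fun i => c • eta G W1 W2 i j) ∪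
      Finset.univ.image (fun i => -(c • eta G W1 W2 i j')))
    (h1 : ∀ i, dot G α (eta G W1 W2 i j) = 0) (h2 : ∀ i, dot G α (eta G W1 W2 i j') = 0) :
    dot G α β = 0 := by
  simp only [Finset.mem_union, Finset.mem_image, Finset.mem_univ, true_and] at hβ
  rcases hβ with ⟨i', rfl⟩ | ⟨i', rfl⟩
  · rw [dot_smul_right, h1, mul_zero]
  · rw [dot_neg_right, dot_smul_right, h2, mul_zero, neg_zero]

theorem dirr_eta_cols {α : X → ℂ}
    (hα : α ∈ Finset.univ.image (fun i => (d : ℂ) • eta G W1 W2 i j) ∪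
      Finset.univ.image (fun i => -((d : ℂ) • eta G W1 W2 i k))) : IsDirr G α := by
  simp only [Finset.mem_union, Finset.mem_image, Finset.mem_univ, true_and] at hα
  rcases hα with ⟨i', rfl⟩ | ⟨i', rfl⟩
  · exact (cycTIiso_dirr h _ _).sign_smul hd
  · exact ((cycTIiso_dirr h _ _).sign_smul hd).neg

theorem orthoN_eta_cols (hjk : j ≠ k) :
    OrthoN G (Finset.univ.image (fun i => (d : ℂ) • eta G W1 W2 i j) ∪
      Finset.univ.image (fun i => -((d : ℂ) • eta G W1 W2 i k))) := by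
  refine ⟨fun α hα => (dirr_eta_cols h hd hα).nrm_eq, fun α hα β hβ hne => ?_⟩
  simp only [Finset.mem_union, Finset.mem_image, Finset.mem_univ, true_and] at hα hβ
  rcases hα with ⟨i, rfl⟩ | ⟨i, rfl⟩ <;> rcases hβ with ⟨i', rfl⟩ | ⟨i', rfl⟩ <;>
    simp only [dot_neg_left, dot_neg_right, dot_smul_left, dot_smul_right, cfdot_cycTIiso h]
  · rw [if_neg fun e => hne (by rw [e.1])]; simp
  · rw [if_neg fun e => hjk e.2]; simp
  · rw [if_neg fun e => hjk e.2.symm]; simp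
  · rw [if_neg fun e => hne (by rw [e.1])]; simp

theorem disjoint_eta_cols (hjk : j ≠ k) :
    Disjoint (Finset.univ.image (fun i => (d : ℂ) • eta G W1 W2 i j))
      (Finset.univ.image (fun i => -((d : ℂ) • eta G W1 W2 i k))) := by
  rw [Finset.disjoint_left]
  intro α h1 h2
  simp only [Finset.mem_image, Finset.mem_univ, true_and] at h1 h2
  obtain ⟨i, rfl⟩ := h1
  obtain ⟨i', e⟩ := h2
  have h0 : (d : ℂ) ≠ 0 := by rcases hd with rfl | rfl <;> simp
  rw [← smul_neg] at e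
  exact cycTIiso_neqN h _ _ _ _ (smul_right_injective _ h0 e).symm

end Rmu

/-- (5.3)(b) -/
theorem prDade_subcoherent (h : PrimeDade L K H A A0 R W1 W2)
    (hS : ConjSub S (seqIndD K L H ⊥)) (hr : ∀ χ ∈ S, star χ ≠ χ) :
    ∃ Rs, Subcoh L ⊤ S (dade A0 L R) Rs ∧
      (∀ φ ∈ S, φ ∈ Irr L → ∀ α ∈ Rs φ, ∀ i j, dot ⊤ α (eta ⊤ W1 W2 i j) = 0) ∧
      ∀ j, muR L W1 W2 j ∈ S → Rs (muR L W1 W2 j) =
        Finset.univ.image (fun i => (delta L W1 W2 j : ℂ) • eta ⊤ W1 W2 i j) ∪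
          Finset.univ.image (fun i => -((delta L W1 W2 j : ℂ) • eta ⊤ W1 W2 i j⁻¹)) := by
  have hp := h.prTI
  have hT : S ⊆ seqIndT K L := hS.sub.trans seqIndD_subset_seqIndT
  have iso : IsoOn L ⊤ (ZS1 S) (dade A0 L R) := (prDade_seqInd_iso h ⊥).mono (ZS1_mono hS.sub)
  have sub : S.filter (· ∈ Irr L) ⊆ S := Finset.filter_subset _ _
  obtain ⟨R1, hR1, hc⟩ := irr_subcoherent (S := S.filter (· ∈ Irr L))
    (fun χ hχ => (Finset.mem_filter.1 hχ).2)
    (fun χ hχ => Finset.mem_filter.2 ⟨hS.closed _ (sub hχ), Irr_star (Finset.mem_filter.1 hχ).2⟩)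
    (fun χ hχ => hr χ (sub hχ)) (iso.mono (ZS1_mono sub)) fun φ _ => dade_apply_one h.dadeH φ
  have o1 : ∀ φ ∈ S.filter (· ∈ Irr L), ∀ α ∈ R1 φ, ∀ i j, dot ⊤ α (eta ⊤ W1 W2 i j) = 0 := by
    intro φ hφ α hα i j
    refine (hR1.Ron φ hφ).dot_eq_zero_of_sum (hc φ hφ).2 (cycTIiso_dirr h.cycTI i j) ?_ hα
    have m := hR1.sub_star_mem hφ
    have m2 : φ - star φ ∈ CFon L K :=
      sub_mem (seqInd_on hp.normal (hT (sub hφ))) (CFon_star (seqInd_on hp.normal (hT (sub hφ))))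
    have m3 := cycTI_NC_norm h.cycTI (hR1.iso.mem _ m)
    rw [hR1.Rsum φ hφ, (hR1.Ron φ hφ).nrm_sum_one, (hc φ hφ).1, ← hR1.Rsum φ hφ] at m3
    rw [← hR1.Rsum φ hφ]
    exact ortho_eta_of_NC_le h.cycTI (CF_inv (ZIrr_CF (hR1.iso.mem _ m))) (fun v hv => by
      rw [h.dade_V (CF_inv (mem_CFon.1 m2).1) hv, hp.vanish_V m2 hv]) (by exact_mod_cast m3) i j
  let Rm : Dual W2 → Finset (X → ℂ) := fun j =>
    Finset.univ.image (fun i => (delta L W1 W2 j : ℂ) • eta ⊤ W1 W2 i j) ∪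
      Finset.univ.image (fun i => -((delta L W1 W2 j : ℂ) • eta ⊤ W1 W2 i j⁻¹))
  let Rs : (X → ℂ) → Finset (X → ℂ) := fun χ =>
    if e : ∃ j, χ = muR L W1 W2 j then Rm e.choose else R1 χ
  have e1 : ∀ j, Rs (muR L W1 W2 j) = Rm j := fun j => by
    have e : ∃ k, muR L W1 W2 j = muR L W1 W2 k := ⟨j, rfl⟩
    exact (dif_pos e).trans (congrArg Rm ((prTIred_inj hp).1 e.choose_spec).symm)
  have e2 : ∀ χ ∈ Irr L, Rs χ = R1 χ := fun χ hχ =>
    dif_neg (by rintro ⟨j, rfl⟩; exact prTIred_not_irr hp j hχ)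
  have cs : ∀ χ ∈ S, (∃ j, j ≠ j⁻¹ ∧ χ = muR L W1 W2 j) ∨ χ ∈ S.filter (· ∈ Irr L) := by
    intro χ hχ
    obtain ⟨θ, hθ, rfl⟩ := mem_seqIndT.1 (hT hχ)
    rcases prTI_Ind_cases hp hθ with ⟨j, e⟩ | e
    · refine Or.inl ⟨j, fun e' => hr _ hχ ?_, e⟩
      rw [e, prTIred_star hp, ← e']
    · exact Or.inr (Finset.mem_filter.2 ⟨hχ, e⟩)
  refine ⟨Rs, ⟨fun χ hχ => seqInd_char hp.normal (hT hχ), hr, hS.closed, iso,
    fun φ _ => dade_apply_one h.dadeH φ, fun χ hχ ψ hψ => seqInd_ortho hp.normal (hT hχ) (hT hψ),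
    fun χ hχ α hα => ?_, fun χ hχ => ?_, fun χ hχ => ?_, fun χ hχ φ hφ a b α hα β hβ => ?_⟩,
    fun φ hφ hi α hα => o1 φ (Finset.mem_filter.2 ⟨hφ, hi⟩) α (e2 φ hi ▸ hα), fun j _ => e1 j⟩
  · rcases cs χ hχ with ⟨j, hj, rfl⟩ | hi
    · rw [e1] at hα
      exact (dirr_eta_cols h.cycTI (delta_cases j) hα).mem_ZIrr
    · rw [e2 χ (Finset.mem_filter.1 hi).2] at hα
      exact hR1.Rz χ hi α hα
  · rcases cs χ hχ with ⟨j, hj, rfl⟩ | hi
    · rw [e1]
      exact orthoN_eta_cols h.cycTI (delta_cases j) hj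
    · rw [e2 χ (Finset.mem_filter.1 hi).2]
      exact hR1.Ron χ hi
  · rcases cs χ hχ with ⟨j, hj, rfl⟩ | hi
    · have j1 : j ≠ 1 := by rintro rfl; exact hj inv_one.symm
      rw [e1, Finset.sum_union (disjoint_eta_cols h.cycTI (delta_cases j) hj),
        sum_eta_col h.cycTI (delta_cases j), sum_neg_eta_col h.cycTI (delta_cases j),
        prTIred_star hp, prDade_sub_TIred h j1 (inv_ne_one.2 j1) (by
          rw [← prTIred_star hp, ZIrr_star_apply_one (prTIred_char hp j).mem_ZIrr]),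
        prTIsign_inv hp, smul_sub, sub_eq_add_neg]
    · rw [e2 χ (Finset.mem_filter.1 hi).2]
      exact hR1.Rsum χ hi
  · rcases cs χ hχ with ⟨j, hj, rfl⟩ | hi
    · rw [e1] at hβ
      rcases cs φ hφ with ⟨k, hk, rfl⟩ | hi'
      · rw [e1] at hα
        rw [prTIred_star hp] at b
        rw [cfdot_prTIred hp] at a b
        have a' : k ≠ j := fun e => cardC_ne_zero W1 (by rwa [if_pos e] at a)
        have b' : k ≠ j⁻¹ := fun e => cardC_ne_zero W1 (by rwa [if_pos e] at b)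
        exact dot_eta_cols_right hβ
          (dot_eta_cols h.cycTI hα a' fun e => b' (inv_eq_iff_eq_inv.1 e))
          (dot_eta_cols h.cycTI hα b' fun e => a' (inv_injective e))
      · rw [e2 φ (Finset.mem_filter.1 hi').2] at hα
        exact dot_eta_cols_right hβ (fun i => o1 φ hi' α hα i _) fun i => o1 φ hi' α hα i _
    · rw [e2 χ (Finset.mem_filter.1 hi).2] at hβ
      rcases cs φ hφ with ⟨k, hk, rfl⟩ | hi'
      · rw [e1] at hα
        exact dot_zero_symm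
          (dot_eta_cols_right hα (fun i => o1 χ hi β hβ i _) fun i => o1 χ hi β hβ i _)
      · rw [e2 φ (Finset.mem_filter.1 hi').2] at hα
        exact hR1.Rorth χ hi φ hi' a b α hα β hβ

/-- The image of an irreducible member of a coherent set is orthogonal to all `η_{ij}`. -/
theorem coherent_ortho_cycTIiso (h : PrimeDade L K H A A0 R W1 W2)
    (hS : ConjSub S (seqIndD K L H ⊥)) (hν : CohWith L ⊤ S (dade A0 L R) ν) (hχ : χ ∈ S)
    (hi : χ ∈ Irr L) (hr : star χ ≠ χ) (i : Dual W1) (j : Dual W2) :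
    dot ⊤ (ν χ) (eta ⊤ W1 W2 i j) = 0 := by
  have sub : ({χ, star χ} : Finset (X → ℂ)) ⊆ S := by
    intro ξ hξ
    simp only [Finset.mem_insert, Finset.mem_singleton] at hξ
    rcases hξ with rfl | rfl
    exacts [hχ, hS.closed _ hχ]
  have cl : ∀ ξ ∈ ({χ, star χ} : Finset (X → ℂ)), star ξ ∈ ({χ, star χ} : Finset (X → ℂ)) := by
    intro ξ hξ
    simp only [Finset.mem_insert, Finset.mem_singleton] at hξ ⊢
    rcases hξ with rfl | rfl <;> simp
  obtain ⟨Rs, h1, h2, -⟩ := prDade_subcoherent h (S := {χ, star χ}) ⟨sub.trans hS.sub, cl⟩ (by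
    intro ξ hξ
    simp only [Finset.mem_insert, Finset.mem_singleton] at hξ
    rcases hξ with rfl | rfl
    · exact hr
    · rw [star_star]; exact hr.symm)
  obtain ⟨E, hE, e⟩ := mem_coherent_sum_subseq h1 ⟨subset_rfl, cl⟩ (hν.mono sub) (χ := χ) (by simp)
  rw [e, dot_sum_left]
  exact Finset.sum_eq_zero fun α hα => h2 χ (by simp) hi α (hE hα) i j

/-- (5.8) -/
theorem coherent_prDade_TIred (h : PrimeDade L K H A A0 R W1 W2)
    (hS : ConjSub S (seqIndD K L H ⊥)) (hr : ∀ χ ∈ S, star χ ≠ χ) (hi : ∃ χ ∈ S, χ ∈ Irr L)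
    (hν : CohWith L ⊤ S (dade A0 L R) ν) {k : Dual W2} (hk : muR L W1 W2 k ∈ S) :
    ν (muR L W1 W2 k) = (delta L W1 W2 k : ℂ) • ∑ i, eta ⊤ W1 W2 i k ∨
      (ν (muR L W1 W2 k) = -((delta L W1 W2 k : ℂ) • ∑ i, eta ⊤ W1 W2 i k⁻¹) ∧
        ∀ l, muR L W1 W2 l ∈ S → muR L W1 W2 l 1 = muR L W1 W2 k 1 → l = k ∨ l = k⁻¹) := by
  have hp := h.prTI
  have hT : S ⊆ seqIndT K L := hS.sub.trans seqIndD_subset_seqIndT
  obtain ⟨ζ, hζ, hζi⟩ := hi
  obtain ⟨Rs, h1, -, h3⟩ := prDade_subcoherent h hS hr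
  have nk : ∀ l, muR L W1 W2 l ∈ S → l ≠ l⁻¹ := fun l hl e => hr _ hl (by
    rw [prTIred_star hp, ← e])
  have n1 : ∀ l, muR L W1 W2 l ∈ S → l ≠ 1 := fun l hl e => nk l hl (by rw [e, inv_one])
  obtain ⟨E, hE, e⟩ := mem_coherent_sum_subseq h1 ⟨subset_rfl, hS.closed⟩ hν hk
  have hR := h1.Ron _ hk
  have cE : (E.card : ℝ) = nrm L (muR L W1 W2 k) := by
    rw [← (hR.mono hE).nrm_sum_one, ← e, hν.nrm_eq hk]
  have cR := h1.card_R hk
  have npos := h1.nrm_pos hk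
  rw [h3 k hk] at hE hR cR
  have ci := CF_inv (ZIrr_CF (hν.mem hk))
  have van : ∀ v ∈ cycV W1 W2, ν (muR L W1 W2 k) v = 0 := by
    intro v hv
    have m : (deg ζ : ℂ) • muR L W1 W2 k - (deg (muR L W1 W2 k) : ℂ) • ζ ∈ ZS1 S := sub_mem_ZS1
      (ZS_natCast_smul _ (mem_ZS_of_mem hk)) (ZS_natCast_smul _ (mem_ZS_of_mem hζ)) (by
        simp only [Pi.smul_apply, smul_eq_mul]
        rw [Irr_apply_one hζi, (h1.char _ hk).apply_one]; ring)
    have m2 := ZS_CFon (fun χ hχ => seqInd_on hp.normal (hT hχ)) (ZS1_le m)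
    have k1 := congrFun (hν.eq _ m) v
    rw [h.dade_V (CF_inv (mem_CFon.1 m2).1) hv, hp.vanish_V m2 hv, map_sub, map_smul,
      map_smul] at k1
    simp only [Pi.sub_apply, Pi.smul_apply, smul_eq_mul] at k1
    rw [ortho_cycTIiso_vanish h.cycTI (CF_inv (ZIrr_CF (hν.mem hζ)))
      (coherent_ortho_cycTIiso h hS hν hζ hζi (hr _ hζ)) hv, mul_zero, sub_zero] at k1
    exact (mul_eq_zero.1 k1).resolve_left (Nat.cast_ne_zero.2 (Irr_deg_pos hζi).ne')
  have o : ∀ i, dot ⊤ (ν (muR L W1 W2 k)) (eta ⊤ W1 W2 i 1) = 0 := fun i => by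
    rw [e, dot_sum_left]
    exact Finset.sum_eq_zero fun α hα =>
      dot_eta_cols h.cycTI (hE hα) (n1 k hk) (inv_ne_one.2 (n1 k hk)) i
  have cst : ∀ i j, dot ⊤ (ν (muR L W1 W2 k)) (eta ⊤ W1 W2 i j) =
      dot ⊤ (ν (muR L W1 W2 k)) (eta ⊤ W1 W2 1 j) := fun i j => by
    have := cycTIiso_cfdot_exchange h.cycTI ci van i 1 j 1
    rwa [o, o, add_zero, zero_add] at this
  have ite : ∀ p q : Prop, ((if p then 1 else 0 : ℂ) = if q then 1 else 0) → (p ↔ q) := by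
    intro p q; split_ifs <;> simp [*]
  have p1 : ∀ i, (delta L W1 W2 k : ℂ) • eta ⊤ W1 W2 i k ∈ E ↔
      (delta L W1 W2 k : ℂ) • eta ⊤ W1 W2 1 k ∈ E := fun i => by
    have a := fun i => hR.dot_sum_one hE (Finset.mem_union_left _
      (Finset.mem_image_of_mem (fun i => (delta L W1 W2 k : ℂ) • eta ⊤ W1 W2 i k)
        (Finset.mem_univ i)))
    refine ite _ _ ?_
    convert (a i).symm.trans (Eq.trans ?_ (a 1))
    rw [← e, dot_smul_right, dot_smul_right, cst]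
  have p2 : ∀ i, -((delta L W1 W2 k : ℂ) • eta ⊤ W1 W2 i k⁻¹) ∈ E ↔
      -((delta L W1 W2 k : ℂ) • eta ⊤ W1 W2 1 k⁻¹) ∈ E := fun i => by
    have a := fun i => hR.dot_sum_one hE (Finset.mem_union_right _
      (Finset.mem_image_of_mem (fun i => -((delta L W1 W2 k : ℂ) • eta ⊤ W1 W2 i k⁻¹))
        (Finset.mem_univ i)))
    refine ite _ _ ?_
    convert (a i).symm.trans (Eq.trans ?_ (a 1))
    rw [← e, dot_neg_right, dot_neg_right, dot_smul_right, dot_smul_right, cst]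
  have cases : ∀ α ∈ E, (∃ i, (delta L W1 W2 k : ℂ) • eta ⊤ W1 W2 i k = α) ∨
      ∃ i, -((delta L W1 W2 k : ℂ) • eta ⊤ W1 W2 i k⁻¹) = α := fun α hα => by
    simpa only [Finset.mem_union, Finset.mem_image, Finset.mem_univ, true_and] using hE hα
  by_cases q1 : (delta L W1 W2 k : ℂ) • eta ⊤ W1 W2 1 k ∈ E <;>
    by_cases q2 : -((delta L W1 W2 k : ℂ) • eta ⊤ W1 W2 1 k⁻¹) ∈ E
  · exfalso
    rw [← hE.antisymm (Finset.union_subset
      (Finset.image_subset_iff.2 fun i _ => (p1 i).2 q1)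
      (Finset.image_subset_iff.2 fun i _ => (p2 i).2 q2))] at cR
    linarith
  · left
    rw [e, ← sum_eta_col h.cycTI (delta_cases k)]
    refine Finset.sum_congr (Finset.Subset.antisymm (fun α hα => ?_)
      (Finset.image_subset_iff.2 fun i _ => (p1 i).2 q1)) fun _ _ => rfl
    rcases cases α hα with ⟨i, rfl⟩ | ⟨i, rfl⟩
    · exact Finset.mem_image.2 ⟨i, Finset.mem_univ i, rfl⟩
    · exact absurd ((p2 i).1 hα) q2
  · right
    have e' : ν (muR L W1 W2 k) = -((delta L W1 W2 k : ℂ) • ∑ i, eta ⊤ W1 W2 i k⁻¹) := by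
      rw [e, ← sum_neg_eta_col h.cycTI (delta_cases k)]
      refine Finset.sum_congr (Finset.Subset.antisymm (fun α hα => ?_)
        (Finset.image_subset_iff.2 fun i _ => (p2 i).2 q2)) fun _ _ => rfl
      rcases cases α hα with ⟨i, rfl⟩ | ⟨i, rfl⟩
      · exact absurd ((p1 i).1 hα) q1
      · exact Finset.mem_image.2 ⟨i, Finset.mem_univ i, rfl⟩
    refine ⟨e', fun l hl hd => ?_⟩
    by_contra hn
    rw [not_or] at hn
    obtain ⟨E', hE', e2⟩ := mem_coherent_sum_subseq h1 ⟨subset_rfl, hS.closed⟩ hν hl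
    rw [h3 l hl] at hE'
    have k1 := congrArg (fun φ => dot ⊤ φ (eta ⊤ W1 W2 1 k))
      ((hν.sub hk hl hd.symm).symm.trans (prDade_sub_TIred h (n1 k hk) (n1 l hl) hd.symm))
    simp only [e', e2, dot_sub_left, dot_neg_left, dot_smul_left, dot_sum_left,
      cfdot_cycTIiso h.cycTI] at k1
    rw [Finset.sum_eq_zero (s := E') fun α hα => dot_eta_cols h.cycTI (hE' hα) hn.1
      (fun e => hn.2 (inv_eq_iff_eq_inv.1 e)) 1] at k1
    rcases delta_cases (L := L) (W1 := W1) l with d | d <;>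
      simp [d, hn.1, (nk k hk).symm] at k1
  · exfalso
    rw [Finset.eq_empty_of_forall_notMem (s := E) fun α hα => by
      rcases cases α hα with ⟨i, rfl⟩ | ⟨i, rfl⟩
      · exact q1 ((p1 i).1 hα)
      · exact q2 ((p2 i).1 hα)] at cE
    simp only [Finset.card_empty, Nat.cast_zero] at cE
    linarith

/-- (5.9)(a), in a form that needs no support condition: `u` acts on `S`, which contains a second
irreducible character `ψ`, and `τ` commutes with `u` and vanishes at `1`. -/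
theorem cfAut_coherent {G : Subgroup X} {τ : (X → ℂ) →ₗ[ℂ] (X → ℂ)} (hν : CohWith L G S τ ν)
    (h1 : ∀ φ ∈ ZS1 S, τ φ 1 = 0) (u : ℂ →+* ℂ) (hτ : ∀ φ ∈ ZS1 S, τ (aut u φ) = aut u (τ φ))
    (hχ : χ ∈ S) (hχi : χ ∈ Irr L) (hχu : aut u χ ∈ S) (hψ : ψ ∈ S) (hψi : ψ ∈ Irr L)
    (hψu : aut u ψ ∈ S) (hne : χ ≠ ψ) : aut u (ν χ) = ν (aut u χ) := by
  have m : (deg ψ : ℂ) • χ - (deg χ : ℂ) • ψ ∈ ZS1 S := sub_mem_ZS1
    (ZS_natCast_smul _ (mem_ZS_of_mem hχ)) (ZS_natCast_smul _ (mem_ZS_of_mem hψ)) (by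
      simp only [Pi.smul_apply, smul_eq_mul]
      rw [Irr_apply_one hχi, Irr_apply_one hψi]; ring)
  have m' : (deg ψ : ℂ) • aut u χ - (deg χ : ℂ) • aut u ψ ∈ ZS1 S := sub_mem_ZS1
    (ZS_natCast_smul _ (mem_ZS_of_mem hχu)) (ZS_natCast_smul _ (mem_ZS_of_mem hψu)) (by
      simp only [Pi.smul_apply, smul_eq_mul]
      rw [ZIrr_aut_apply_one (Irr_ZIrr hχi), ZIrr_aut_apply_one (Irr_ZIrr hψi), Irr_apply_one hχi,
        Irr_apply_one hψi]; ring)
  have k := hτ _ m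
  rw [← hν.eq _ m, map_sub (aut u), aut_natCast_smul, aut_natCast_smul, ← hν.eq _ m'] at k
  simp only [map_sub, map_smul, aut_natCast_smul] at k
  have dα := (hν.dirr hχ hχi).aut u
  have dγ := hν.dirr hχu (Irr_aut hχi u)
  have dδ := hν.dirr hψu (Irr_aut hψi u)
  have o1 : dot G (aut u (ν ψ)) (aut u (ν χ)) = 0 := by
    rw [dot_aut_ZIrr u (hν.mem hψ) (hν.mem hχ), hν.dot_eq hψ hχ, dot_Irr_ne hψi hχi hne.symm]
  have o2 : dot G (ν (aut u ψ)) (ν (aut u χ)) = 0 := by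
    rw [hν.dot_eq hψu hχu, dot_Irr_ne (Irr_aut hψi u) (Irr_aut hχi u)
      fun e => hne (aut_injective u e).symm]
  have k2 := congrArg (fun φ => dot G φ (aut u (ν χ))) k
  simp only [dot_sub_left, dot_smul_left, o1, dα.dot_self] at k2
  have b0 := Irr_deg_pos hψi
  have a0 := Irr_deg_pos hχi
  rcases dγ.dot_cases dα with ⟨e, -⟩ | ⟨e, e'⟩ | e'
  · exact e.symm
  · rw [e, dot_neg_right, neg_eq_zero] at o2
    rw [e', o2] at k2
    have : ((deg ψ + deg ψ : ℕ) : ℂ) = 0 := by push_cast; linear_combination -k2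
    have := Nat.cast_eq_zero.1 this
    omega
  rw [e'] at k2
  rcases dδ.dot_cases dα with ⟨-, e2⟩ | ⟨e1, -⟩ | e2
  · rw [e2] at k2
    have : ((deg ψ + deg χ : ℕ) : ℂ) = 0 := by push_cast; linear_combination -k2
    have := Nat.cast_eq_zero.1 this
    omega
  · exfalso
    rcases hν.dirr hχ hχi with hp | hp
    · exact not_neg_mem_Irr (Irr_aut hp u)
        (e1 ▸ coherent_dirr_sign hν h1 hχ hψu hχi (Irr_aut hψi u) hp)
    · have := Irr_aut hp u
      rw [map_neg, ← e1] at this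
      exact not_neg_mem_Irr (coherent_dirr_sign hν h1 hψu hχ (Irr_aut hψi u) hχi this) hp
  · rw [e2] at k2
    have : ((deg ψ : ℕ) : ℂ) = 0 := by linear_combination -k2
    have := Nat.cast_eq_zero.1 this
    omega

theorem cfAut_Dade_coherent (hD : DadeHypothesis A L R) (hν : CohWith L ⊤ S (dade A L R) ν)
    (u : ℂ →+* ℂ) (hS : ∀ φ ∈ S, star φ ∈ S) (hu : ∀ φ ∈ S, aut u φ ∈ S) (hχ : χ ∈ S)
    (hχi : χ ∈ Irr L) (hr : star χ ≠ χ) : aut u (ν χ) = ν (aut u χ) := cfAut_coherent hν (fun φ _ => dade_apply_one hD φ) u (fun φ _ => Dade_aut u φ) hχ hχi (hu _ hχ)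
    (hS _ hχ) (Irr_star hχi) (hu _ (hS _ hχ)) hr.symm

theorem cfConjC_Dade_coherent (hD : DadeHypothesis A L R) (hν : CohWith L ⊤ S (dade A L R) ν)
    (hχ : χ ∈ S) (hχ' : star χ ∈ S) (hχi : χ ∈ Irr L) (hr : star χ ≠ χ) :
    star (ν χ) = ν (star χ) := by
  have := cfAut_coherent hν (fun φ _ => dade_apply_one hD φ) (starRingEnd ℂ)
    (fun φ _ => Dade_aut _ φ) hχ hχi (by rwa [aut_conj]) hχ' (Irr_star hχi)
    (by rwa [aut_conj, star_star]) hr.symm
  rwa [aut_conj, aut_conj] at this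

/-- (5.9)(b) -/
theorem Dade_irr_sub_conjC (hD : DadeHypothesis A L R) (hχ : χ ∈ Irr L)
    (hA : χ ∈ CFon L (insert 1 A)) :
    ∃ μ ∈ Irr (⊤ : Subgroup X), dade A L R (χ - star χ) = μ - star μ := by
  by_cases hr : star χ = χ
  · exact ⟨one ⊤, one_mem_Irr ⊤, by rw [hr, star_one', sub_self, sub_self, map_zero]⟩
  have z : χ - star χ ∈ ZIrr L := sub_mem (Irr_ZIrr hχ) (Irr_ZIrr (Irr_star hχ))
  have m : χ - star χ ∈ CFon L A := by
    refine mem_CFon.2 ⟨ZIrr_CF z, fun g hg => ?_⟩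
    by_cases h1 : g = 1
    · rw [h1, Pi.sub_apply, ZIrr_star_apply_one (Irr_ZIrr hχ), sub_self]
    · exact (mem_CFon.1 (sub_mem hA (CFon_star hA))).2 g fun h => h.elim h1 hg
  obtain ⟨α, hα, β, hβ, hne, e⟩ := vchar_norm2_one (Dade_vchar hD z m) (by
    rw [nrm_Dade hD m, nrm_sub_of_orth (dot_Irr_ne hχ (Irr_star hχ) (Ne.symm hr)), nrm_star,
      nrm_Irr hχ]
    norm_num) (dade_apply_one hD _)
  refine ⟨α, hα, ?_⟩
  have k := Dade_star (A := A) (L := L) (R := R) (χ - star χ)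
  rw [star_sub, star_star, ← neg_sub χ, map_neg, e, star_sub] at k
  have k2 := congrArg (fun φ => dot ⊤ φ α) k
  simp only [dot_neg_left, dot_sub_left, dot_Irr_self hα, dot_Irr_ne hβ hα hne.symm,
    dot_Irr (Irr_star hα) hα, dot_Irr (Irr_star hβ) hα] at k2
  by_cases e2 : star β = α
  · rw [e, ← e2, star_star]
  · rw [if_neg e2] at k2
    split_ifs at k2 <;> norm_num at k2

end Cfsg.Agent.PF
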