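import Cfsg.Agent.BG.S3
import Cfsg.Agent.PF.P05c
import Cfsg.Agent.PF.P07
import Cfsg.Agent.PF.P13a
import Cfsg.Agent.PF.P13b
import Cfsg.Agent.PF.P13c

/-! Peterfalvi (13.17)-(13.19).  Here `u = |U|`. -/

set_option autoImplicit false
set_option linter.unusedVariables false
set_option linter.unusedSectionVars false

namespace Cfsg.Agent.PF

open Cfsg.Agent.BG
open scoped _root_.Classical ComplexConjugate

section general
variable {X : Type*} [Group X] [Finite X] {H L : Subgroup X} {τ ν : (X → ℂ) →ₗ[ℂ] (X → ℂ)}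

theorem coherent_sum_ratio_dot (hH : H ⊴ L) (hν : CohWith L ⊤ (seqIndD H L H ⊥) τ ν) {ξ : X → ℂ}
    (hξ : ξ ∈ seqIndD H L H ⊥) :
    dot ⊤ (∑ ξ ∈ seqIndD H L H ⊥, (ξ 1 / H.relIndex L / nrm L ξ) • ν ξ) (ν ξ) =
      ξ 1 / H.relIndex L := by
  have hT := fun {ξ} (h : ξ ∈ seqIndD H L H ⊥) => seqIndD_subset_seqIndT h
  have : (nrm L ξ : ℂ) ≠ 0 := by exact_mod_cast (seqInd_nrm_pos hH (hT hξ)).ne'
  rw [dot_sum_left, Finset.sum_eq_single ξ _ fun h => (h hξ).elim, dot_smul_left,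
    hν.dot_eq hξ hξ, dot_self, div_mul_cancel₀ _ this]
  intro η hη hne
  rw [dot_smul_left, hν.dot_eq hη hξ, seqInd_ortho hH (hT hη) (hT hξ) hne, mul_zero]

theorem coherent_sum_ratio_nrm (hH : H ⊴ L) (hν : CohWith L ⊤ (seqIndD H L H ⊥) τ ν) :
    nrm ⊤ (∑ ξ ∈ seqIndD H L H ⊥, (ξ 1 / H.relIndex L / nrm L ξ) • ν ξ) =
      ((#H : ℝ) - 1) / H.relIndex L := by
  have hT := fun {ξ} (h : ξ ∈ seqIndD H L H ⊥) => seqIndD_subset_seqIndT h
  rw [← sum_seqInd_ratio_sq hH, nrm_sum_of_orth]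
  · refine Finset.sum_congr rfl fun ξ hξ => ?_
    have := (seqInd_nrm_pos hH (hT hξ)).ne'
    rw [nrm_smul, hν.nrm_eq hξ, norm_div _ (nrm L ξ : ℂ), Complex.norm_real,
      Real.norm_of_nonneg nrm_nonneg]
    field_simp
  · intro i hi j hj hij
    rw [dot_smul_left, dot_smul_right, hν.dot_eq hi hj, seqInd_ortho hH (hT hi) (hT hj) hij]
    simp

end general

variable {G : Type*} [Group G] [Finite G] [hG : Fact (IsMinSimpleOddOrder G)]
variable {S T L U W1 W2 : Subgroup G} {φ X Y : G → ℂ} {ν : (G → ℂ) →ₗ[ℂ] (G → ℂ)}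
  {j k : Dual W2}

variable (hS : IsCoatom S) (hP : OfTypeP S U W1 W2)
include hS hP

theorem FTtypeI_coprime' (hL : IsCoatom L) (h1 : FTtype L = 1) : (#MF(L)).Coprime (#W1 * #W2) := by
  obtain ⟨T, hST⟩ := FTtypeP_pair_witness hS hP
  obtain ⟨V, hQ⟩ := typeP_pairW hST.symm
  exact Nat.Coprime.mul_right
    (coprimeSS (Fcore_le_FTcore hL) (hQ.le₂.trans (Fcore_le_FTcore hST.maxT))
      (coprime_FTcore_of_FTtype_ne hL hST.maxT (h1 ▸ hST.neT.symm)))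
    (coprimeSS (Fcore_le_FTcore hL) (hP.le₂.trans (Fcore_le_FTcore hS))
      (coprime_FTcore_of_FTtype_ne hL hS (h1 ▸ hST.neS.symm)))

/-- (13.17) -/
theorem FTtypeII_support_facts (h2 : FTtype S = 2) (hT : TypePPair S T W1 W2) (hL : IsCoatom L)
    (hN : N[U] ≤ L) : FrobKer L MF(L) ∧ U ≤ MF(L) ∧
      (Sdprod MF(L) W1 L ∨ ∃ y ∈ MF(T), Sdprod MF(L) (W1 ⊔ BG.cj y W2) L) := by
  obtain ⟨V, hQ⟩ := typeP_pairW hT.symm
  obtain ⟨hq, hp⟩ := FTtypeP_primes hS hP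
  have := Fact.mk hq
  have hF := FTtypeP_compl_Frobenius hS hP
  have hUL : U ≤ L := (normG U).trans hN
  have hWL : W1 ≤ L := hP.normU.trans hN
  have hcU := Frobenius_coprime hF
  have h1 : FTtype L = 1 := by
    by_contra h1
    rcases hT.trans L hL h1 with ⟨g, rfl⟩ | ⟨g, rfl⟩
    · have hH : IsPiHallOf (primesOf #U) U S := by
        refine pHall_of_coprime (typeP_U_leM hP) ?_
        have e := card_mul_relIndex (typeP_U_leM hP)
        rw [typeP_card hP, mul_comm (#MF(S)), mul_assoc] at e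
        rw [Nat.eq_of_mul_eq_mul_left (cardG_pos U) e]
        exact (coprimegS le_sup_left (Ptype_Fcore_coprime hP)).symm.mul_right hcU
      obtain ⟨x, hx, e⟩ := Hall_trans (typeP_sol hP) hH (pHall_of_card_le hH (le_cj_iff.1 hUL)
        (pgroupJ _ hH.pi) (card_cj _ _).ge)
      refine ((FTtypeP2 hS hP).1 h2).notNorm ((cj_le_iff_of_mem hx).1 ?_)
      rw [← N_cj, ← e, N_cj]
      exact le_cj_iff.1 hN
    · have h3 := pHallJ g (pHall_subl (Fcore_sub T) le_top (FTtypeP_core_Sylow hT.maxT hQ))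
      have h4 := (Fcore_normal T).cj g
      have h5 := sub_normal_Hall h3 h4 hWL (IsPGroup.pi (pgroup_of_card_p rfl))
      have h6 : U ≤ BG.cj g MF(T) := by
        rw [← Frobenius_commg hF]
        exact (Subgroup.commutator_mono hUL h5).trans (commg_subr h4.norm)
      exact hF.neK (trivg_of_pi (pgroupS h6 h3.pi) ((p'nat_coprime hq).2 hcU))
  have hFL := FTtype1_Frobenius hL h1
  have hH := hFL.normal
  have hcH := (FTtypeI_coprime' hS hP hL h1).coprime_mul_right_right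
  have hHW : MF(L) ⊓ C[W1] = ⊥ := by
    obtain ⟨w, hw, hw1⟩ := exists_mem_ne_one hP.ne₁
    refine eq_bot_iff.2 ((inf_le_inf_left _ (cent_le_cent1 hw)).trans (hFL.reg (hWL hw)
      fun h => hw1 ?_).le)
    exact Subgroup.mem_bot.1 (coprime_TI hcH ▸ (⟨h, hw⟩ : w ∈ MF(L) ⊓ W1))
  have hUH : U ≤ MF(L) := by
    have n1 : W1 ≤ N[MF(L) ⊔ U] := normsY (hWL.trans hH.norm) hP.normU
    have hnil := semiregular_sol_nil n1 (mFT_sol (sub_mmax_proper hL (sup_le hH.le hUL))) hP.ne₁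
      (semiregular_prime hq (by
        rw [coprime_mulG_setI_cent (hUL.trans hH.norm) (hWL.trans hH.norm) hP.normU
          (coprimeSg inf_le_left hcH) (Or.inl (mFT_sol (sub_mmax_proper hL hWL))), hHW,
          Frobenius_trivg_cent hF, sup_bot_eq]))
    obtain ⟨z, hz, hz1⟩ := exists_mem_ne_one
      (meet_center_nil hnil (normalYl (hUL.trans hH.norm)) hFL.ne_bot)
    exact (le_inf hUL (le_sup_right.trans ((cents_symm (le_refl C[MF(L) ⊔ U])).trans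
      (cent_le_cent1 hz.2.2)))).trans (hFL.cent z hz.1 hz1)
  refine ⟨hFL, hUH, ?_⟩
  obtain ⟨E0, hE0⟩ := hFL.exists_frob
  obtain ⟨x, hx, hWE⟩ := SchurZassenhaus_sub hE0.norm (hWL.trans hE0.sd.sup.ge) (Frobenius_coprime hE0) hcH
    (Or.inl (mFT_sol (sub_mmax_proper hL hH.le)))
  have hE := hE0.cj x
  rw [cj_of_mem hx, cj_of_mem (hH.le hx)] at hE
  generalize BG.cj x E0 = E at hE hWE
  have hn := prime_odd_regular_normal hq (mFT_odd E) hWE hE.neK hE.norm hE.reg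
  have hsd := (FTtypeP_norm_cent_compl hT.maxT hQ).1
  have hab := (FTtypeP_core_abelem hT.maxT hQ).1
  have e1 : W1 = MF(T) ⊓ E := by
    have h3 := abelemS (inf_le_left (b := E)) hab
    exact eq_of_card_le (le_inf hQ.le₂ hWE) (Nat.le_of_dvd hq.pos (cyclic_abelem_card_dvd h3
      (odd_regular_pgroup_cyclic h3.pg (mFT_odd _) hE.neK (inf_le_right.trans hE.norm)
        (semiregularS le_rfl inf_le_right hE.reg))))
  have e2 := card_inf_mul_relIndex MF(T) E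
  have e3 := relIndex_dvd_of_norm hsd.normal.norm hn.norm
  rw [hsd.relIndexl] at e3
  rw [← e1] at e2
  rcases hp.eq_one_or_self_of_dvd _ e3 with e4 | e4
  · rw [e4, mul_one] at e2
    exact Or.inl (eq_of_card_le hWE e2.ge ▸ hE.sd)
  · obtain ⟨X, hX, hXp⟩ := Cauchy_sub hp (e2 ▸ e4 ▸ dvd_mul_left _ _ : #W2 ∣ #E)
    have hc := coprimegS (hQ.sdprod.ler.trans le_rfl |> fun _ => le_sup_right)
      (Ptype_Fcore_coprime hQ)
    obtain ⟨y, hy, hXy⟩ := SchurZassenhaus_sub hsd.norm (hsd.sup ▸ hX.trans hn.norm) hc (hXp ▸ hc)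
      (Or.inl (mFT_sol (sub_mmax_proper hT.maxT (Fcore_sub T))))
    have e5 : X = BG.cj y W2 := eq_of_card_le hXy (by rw [card_cj, hXp])
    refine Or.inr ⟨y, hy, ?_⟩
    have e6 : W1 ⊔ X = E := eq_of_card_le (sup_le hWE hX) (by
      rw [card_sup_TI (Or.inr (hX.trans hn.norm)) (coprime_TI (hXp ▸ (FT_cyclicTI_hyp hP).coprime)),
        hXp, ← e2, e4])
    exact e5 ▸ e6 ▸ hE.sd

theorem FTtypeP_dvd_u : #W1 ∣ #U - 1 := Frobenius_dvd_ker1 (FTtypeP_compl_Frobenius hS hP)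

/-! ### The character `Ind_{P W₁}^S 1` -/

theorem FTtypeP_PW1_le : MF(S) ⊔ W1 ≤ S := sup_le (Fcore_sub S) (typeP_W1_le hP)

theorem FTtypeP_PW1_inf : ⁅S, S⁆ ⊓ (MF(S) ⊔ W1) = MF(S) := by
  rw [group_modl (Or.inr ((typeP_W1_le hP).trans (Fcore_normal S).norm)) (typeP_Fcore_le hP),
    hP.sdprod.inf, sup_bot_eq]

theorem FTtypeP_PW1_card : #(MF(S) ⊔ W1 : Subgroup G) = #MF(S) * #W1 :=
  card_sup_TI (Or.inr ((typeP_W1_le hP).trans (Fcore_normal S).norm))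
    (eq_bot_iff.2 ((inf_le_inf_right _ (typeP_Fcore_le hP)).trans hP.sdprod.inf.le))

theorem FTtypeP_gamma_ker : MF(S) ≤ cfker (Ind (MF(S) ⊔ W1) S (one (MF(S) ⊔ W1))) :=
  le_cfker_Ind le_sup_left (Fcore_normal S).norm (by rw [cfker_one]; exact le_sup_left)

theorem FTtypeP_gamma_one : Ind (MF(S) ⊔ W1) S (one (MF(S) ⊔ W1)) 1 = #U := by
  have e := card_mul_relIndex (FTtypeP_PW1_le hS hP)
  rw [typeP_card hP, mul_right_comm, ← FTtypeP_PW1_card hS hP] at e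
  rw [Ind_apply_one (FTtypeP_PW1_le hS hP), one_apply_one, mul_one,
    Nat.eq_of_mul_eq_mul_left (cardG_pos _) e]

theorem FTtypeP_gamma_der {x : G} (hx : x ∈ ⁅S, S⁆) (hx' : x ∉ MF(S)) :
    Ind (MF(S) ⊔ W1) S (one (MF(S) ⊔ W1)) x = 0 := by
  refine Ind_eq_zero fun y hy h => (hx' ?_).elim
  have : y * x * y⁻¹ ∈ MF(S) :=
    FTtypeP_PW1_inf hS hP ▸ (⟨hP.sdprod.normal.conj_mem hy hx, h⟩ : _ ∈ ⁅S, S⁆ ⊓ (MF(S) ⊔ W1))
  simpa [mul_assoc] using (Fcore_normal S).conj_mem (S.inv_mem hy) this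

theorem FTtypeP_gamma_W1 {w : G} (hw : w ∈ W1) (hw1 : w ≠ 1) :
    Ind (MF(S) ⊔ W1) S (one (MF(S) ⊔ W1)) w = 1 := by
  have hwP : w ∈ MF(S) ⊔ W1 := Subgroup.mem_sup_right hw
  rw [Ind_apply_of_CF (one_mem_CF _), ← sum_fs_subset (A := (MF(S) ⊔ W1 : Subgroup G))
    (FTtypeP_PW1_le hS hP), Finset.sum_congr rfl fun x hx => one_of_mem
      (Subgroup.mul_mem _ (Subgroup.mul_mem _ (mem_fs.1 hx) hwP) (Subgroup.inv_mem _ (mem_fs.1 hx))),
    sum_fs_const, mul_one, inv_mul_cancel₀ (cardC_ne_zero _)]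
  refine fun x hx hx' => one_of_not_mem fun h => hx' ?_
  obtain ⟨a, ha, b, hb, rfl⟩ := (Ptype_Fcore_sdprod hP).mem hx
  obtain ⟨u', hu', v, hv, rfl⟩ := (Ptype_compl_sdprod hP).mem hb
  have hu : v⁻¹ * u' * v ∈ U := by simpa using (hP.normU (W1.inv_mem hv) u').1 hu'
  have hav : a * v ∈ MF(S) ⊔ W1 := Subgroup.mul_mem_sup ha hv
  have e : a * (u' * v) = a * v * (v⁻¹ * u' * v) := by group
  generalize v⁻¹ * u' * v = u at hu e
  rw [e] at h ⊢
  have h1 : u * w * u⁻¹ * w⁻¹ ∈ MF(S) ⊔ W1 := by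
    refine Subgroup.mul_mem _ ?_ (Subgroup.inv_mem _ hwP)
    have := Subgroup.mul_mem _ (Subgroup.mul_mem _ (Subgroup.inv_mem _ hav) h) hav
    simpa [mul_assoc] using this
  have h2 : u * w * u⁻¹ * w⁻¹ ∈ U := by
    have := U.mul_mem hu ((hP.normU hw _).1 (U.inv_mem hu))
    simpa [mul_assoc] using this
  have h3 : u * w * u⁻¹ * w⁻¹ = 1 := Subgroup.mem_bot.1 (hP.sdprod'.inf ▸
    (⟨FTtypeP_PW1_inf hS hP ▸ (⟨typeP_U_le hP h2, h1⟩ : _ ∈ ⁅S, S⁆ ⊓ (MF(S) ⊔ W1)), h2⟩ :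
      _ ∈ MF(S) ⊓ U))
  have h4 : u = 1 := Subgroup.mem_bot.1 (typeP_semiregular hP w hw hw1 ▸
    (⟨hu, mem_cent1.2 (by rw [mul_inv_eq_one, mul_inv_eq_iff_eq_mul] at h3; exact h3)⟩ :
      u ∈ U ⊓ C1[w]))
  rw [h4, mul_one]
  exact hav

theorem FTtypeP_gamma_nrm :
    nrm S (Ind (MF(S) ⊔ W1) S (one (MF(S) ⊔ W1))) = ((#U - 1) / #W1 : ℕ) + 1 := by
  have hn := (typeP_W1_le hP).trans (Fcore_normal S).norm
  apply Complex.ofReal_injective
  rw [← dot_self, dot_Ind_right (FTtypeP_PW1_le hS hP) Ind_conjInv, dot_one_right le_rfl,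
    sum_fs_diff (A := MF(S)) (le_sup_left : MF(S) ≤ MF(S) ⊔ W1),
    Finset.sum_congr rfl fun x hx => (cfker_apply (FTtypeP_gamma_ker hS hP (mem_fs.1 hx))).trans
      (FTtypeP_gamma_one hS hP), sum_fs_const, Finset.sum_congr (g := fun _ => 1) rfl fun x hx => ?_]
  · rw [Finset.sum_const, card_fs_eq_ncard, Set.ncard_sdiff (le_sup_left : MF(S) ≤ MF(S) ⊔ W1),
      ← Nat.card_coe_set_eq, ← Nat.card_coe_set_eq, nsmul_eq_mul, mul_one]
    have h1 := cardC_ne_zero MF(S)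
    have h2 := cardC_ne_zero W1
    simp only [SetLike.coe_sort_coe]
    rw [Nat.cast_sub (card_le_card le_sup_left), FTtypeP_PW1_card hS hP]
    push_cast
    rw [Nat.cast_div (FTtypeP_dvd_u hS hP) h2, Nat.cast_sub (cardG_pos U)]
    field_simp
    push_cast
    ring
  · obtain ⟨h1, h2⟩ := mem_fs.1 hx
    obtain ⟨a, ha, w, hw, rfl⟩ := (⟨rfl, hn, eq_bot_iff.2 ((inf_le_inf_right _
      (typeP_Fcore_le hP)).trans hP.sdprod.inf.le)⟩ : Sdprod MF(S) W1 (MF(S) ⊔ W1)).mem h1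
    rw [cfker_mul (FTtypeP_gamma_ker hS hP ha), FTtypeP_gamma_W1 hS hP hw]
    rintro rfl
    exact h2 (by simpa using ha)

section bridge
variable (hj : j ≠ 1)
include hj

theorem FTtypeP_bridge_vchar : bridgeP S W1 W2 j ∈ ZIrr S :=
  sub_mem (ZIrr_Ind (one_mem_ZIrr _) (FTtypeP_PW1_le hS hP))
    (Irr_ZIrr (prTIirr_Irr (FT_primeTI_hyp hP) 1 j))

theorem FTtypeP_mu_one (i : Dual W1) : mu2 S W1 W2 i j 1 = #U := by
  rw [FTprTIirr1 hS hP i hj, FTtypeP_reg_Fcore hS hP, Subgroup.relIndex_bot_left]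

/-- (13.18)(a) -/
theorem FTtypeP_bridge_on :
    bridgeP S W1 W2 j ∈ CFon S (MF(S)^# ∪ classSupp (cycV W1 W2) S) := by
  have hpr := FT_primeTI_hyp hP
  have hC := ZIrr_CF (FTtypeP_bridge_vchar hS hP hj)
  refine ⟨hC, fun x hx => ?_⟩
  rw [Set.mem_union, not_or] at hx
  by_cases hxS : x ∈ S
  swap
  · exact CF_zero hC hxS
  by_cases hx1 : x = 1
  · rw [hx1, bridgeP, Pi.sub_apply, FTtypeP_gamma_one hS hP, FTtypeP_mu_one hS hP hj, sub_self]
  by_cases hx' : x ∈ ⁅S, S⁆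
  · have hxP : x ∉ MF(S) := fun h => hx.1 ⟨h, hx1⟩
    have h1 := (seqInd_on (Fitting_normal S) (FTprTIred_Ind_Fitting hS hP hj)).2 x
      (by rwa [FTtypeP_Fitting_eq hS hP])
    rw [cfRes_prTIred hpr, ← cfRes_prTIirr hpr 1 j, Pi.smul_apply, Res_of_mem _ hx', smul_eq_mul,
      mul_eq_zero] at h1
    rw [bridgeP, Pi.sub_apply, FTtypeP_gamma_der hS hP hx' hxP, h1.resolve_left (cardC_ne_zero W1),
      sub_self]
  obtain ⟨y, hy, h1, h2⟩ := hpr.exists_conj hxS hx'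
  have h3 : y * x * y⁻¹ ∈ W1 := by_contra fun h3 =>
    hx.2 ((classSupp_conj_iff hy).1 (sub_classSupp _ _ (mem_cycV.2 ⟨h1, h3, h2⟩)))
  rw [← CF_conj hC hy, bridgeP, Pi.sub_apply, FTtypeP_gamma_W1 hS hP h3 (conj_ne_one.2 hx1),
    prTIirr_id hpr 1 j h1 h2, FTprTIsign hS hP, om_left hpr.centW hpr.inf 1 j h3, lin_one,
    one_of_mem h3]
  simp

theorem FTtypeP_bridge_on0 : bridgeP S W1 W2 j ∈ CFon S (FTsupp0 S) :=
  CFon_mono (Set.union_subset (Fcore_sub_FTsupp0 hS)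
    (FTtypeP_supp0_def hS hP ▸ Set.subset_union_right)) (FTtypeP_bridge_on hS hP hj)

theorem FTtypeP_Dade_bridge_on : tauM S (bridgeP S W1 W2 j) ∈
    CFon ⊤ (classSupp MF(S)^# ⊤ ∪ classSupp (cycV W1 W2) ⊤) := by
  rw [FTtypeP_Dade_Ind hS hP (FTtypeP_bridge_on0 hS hP hj)]
  refine ⟨Ind_mem_CF le_top, fun g hg => Ind_eq_zero_of_not_classSupp
    (fun x _ => (FTtypeP_bridge_on hS hP hj).2 x) fun h => hg ?_⟩
  rw [classSupp_union] at h
  exact h.imp_right fun h => classSupp_sub_classSupp (classSupp_mono le_rfl le_top) h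

theorem FTtypeP_Dade_bridge_vchar : tauM S (bridgeP S W1 W2 j) ∈ ZIrr ⊤ :=
  Dade_vchar (FT_Dade0_hyp hS) (FTtypeP_bridge_vchar hS hP hj) (FTtypeP_bridge_on0 hS hP hj)

/-- (13.18)(b) -/
theorem FTtypeP_bridge_norm : nrm S (bridgeP S W1 W2 j) = ((#U - 1) / #W1 : ℕ) + 2 := by
  have hpr := FT_primeTI_hyp hP
  rw [bridgeP, nrm_sub_of_orth, FTtypeP_gamma_nrm hS hP, nrm_Irr (prTIirr_Irr hpr 1 j), add_assoc,
    one_add_one_eq_two]
  by_contra h
  exact cfker_prTIres (FT_prDade_hypF hS hP) hj (le_cfker_Res (typeP_Fcore_le hP)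
    ((FTtypeP_gamma_ker hS hP).trans (cfker_le_of_dot_ne_zero (Ind_mem_CF (FTtypeP_PW1_le hS hP))
      (prTIirr_Irr hpr 1 j) h)))

theorem FTtypeP_Dade_bridge_sub (hk : k ≠ 1) : tauM S (bridgeP S W1 W2 k) -
    tauM S (bridgeP S W1 W2 j) = eta ⊤ W1 W2 1 j - eta ⊤ W1 W2 1 k := by
  have := prDade_sub_TIirr (FT_prDade_hyp hS hP) 1 hj hk
    ((FTtypeP_mu_one hS hP hj 1).trans (FTtypeP_mu_one hS hP hk 1).symm)
  rw [FTprTIsign hS hP, Int.cast_one, one_smul] at this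
  rw [← this, ← map_sub, bridgeP, bridgeP, sub_sub_sub_cancel_left]

/-- (13.18)(c) -/
theorem FTtypeP_gap_eq (hk : k ≠ 1) : bridgeGap S W1 W2 j = bridgeGap S W1 W2 k := by
  unfold bridgeGap
  linear_combination -FTtypeP_Dade_bridge_sub hS hP hj hk

theorem FTtypeP_gap_vchar : bridgeGap S W1 W2 j ∈ ZIrr ⊤ :=
  add_mem (sub_mem (FTtypeP_Dade_bridge_vchar hS hP hj) (one_mem_ZIrr _))
    (cycTIiso_vchar (FT_cyclicTI_hyp hP) 1 j)

theorem FTtypeP_Dade_bridge_one : dot ⊤ (tauM S (bridgeP S W1 W2 j)) (one ⊤) = 1 := by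
  have hpr := FT_primeTI_hyp hP
  rw [dot_Dade_one (FT_Dade0_hyp hS) (FTtypeP_bridge_on0 hS hP hj), bridgeP, dot_sub_left,
    dot_Ind_left (FTtypeP_PW1_le hS hP) (CF_inv (one_mem_CF S)),
    dot_one_one (FTtypeP_PW1_le hS hP) le_rfl, ← prTIirr00 hpr, cfdot_prTIirr hpr]
  simp [hj]

theorem FTtypeP_gap_one : dot ⊤ (bridgeGap S W1 W2 j) (one ⊤) = 0 := by
  rw [bridgeGap, dot_add_left, dot_sub_left, FTtypeP_Dade_bridge_one hS hP hj,
    dot_one_one le_rfl le_rfl, dot_eta_one (FT_cyclicTI_hyp hP)]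
  simp [hj]

theorem FTtypeP_gap_real : star (bridgeGap S W1 W2 j) = bridgeGap S W1 W2 j := by
  have e : (1 : Dual W1)⁻¹ = 1 := lin_injective (by rw [lin_inv, lin_one, star_one'])
  have hj' : j⁻¹ ≠ 1 := fun h => hj (lin_injective (star_injective (by
    rw [← lin_inv, h, lin_one, star_one'])))
  refine Eq.trans ?_ (FTtypeP_gap_eq hS hP hj hj').symm
  rw [bridgeGap, star_add, star_sub, star_one', ← Dade_star, bridgeP,
    star_sub, ← Ind_star, star_one', prTIirr_star (FT_primeTI_hyp hP), star_eta (FT_cyclicTI_hyp hP), e]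
  rfl

/-- (13.18)(d) -/
theorem FTtypeP_gap_bound (he : bridgeGap S W1 W2 j = X + Y) (hXY : dot ⊤ X Y = 0)
    (hY : ∀ i k, dot ⊤ Y (eta ⊤ W1 W2 i k) = 0) : nrm ⊤ Y ≤ ((#U - 1) / #W1 : ℕ) := by
  have hcy := FT_cyclicTI_hyp hP
  have e : (1 : Dual W1)⁻¹ = 1 := lin_injective (by rw [lin_inv, lin_one, star_one'])
  have hj' : j⁻¹ ≠ 1 := fun h => hj (lin_injective (star_injective (by
    rw [← lin_inv, h, lin_one, star_one'])))
  have hne := hcy.inv_ne2 hj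
  have hβ : tauM S (bridgeP S W1 W2 j) =
      eta ⊤ W1 W2 1 1 - eta ⊤ W1 W2 1 j + bridgeGap S W1 W2 j := by
    rw [bridgeGap, cycTIiso1 hcy]; abel
  have hn := (nrm_Dade (FT_Dade0_hyp hS) (FTtypeP_bridge_on0 hS hP hj)).trans
    (FTtypeP_bridge_norm hS hP hj)
  have h1 := FTtypeP_Dade_bridge_one hS hP hj
  obtain ⟨a, ha⟩ := ZIrr_dot_int (FTtypeP_gap_vchar hS hP hj) (cycTIiso_vchar hcy 1 j)
  have ha' : dot ⊤ (bridgeGap S W1 W2 j) (eta ⊤ W1 W2 1 j⁻¹) = a := by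
    rw [← e, ← star_eta hcy, ← FTtypeP_gap_real hS hP hj, dot_star_star, ← conj_dot, ha,
      map_intCast]
  set β := tauM S (bridgeP S W1 W2 j)
  have h2 : nrm ⊤ (β - Y) = nrm ⊤ β - nrm ⊤ Y := by
    rw [nrm_sub, rdot_def, hβ, dot_add_left, dot_sub_left, dot_zero_symm (hY 1 1),
      dot_zero_symm (hY 1 j), he, dot_add_left, hXY, dot_self]
    simp; ring
  have h3 := (Finset.single_le_sum (f := fun i => ∑ k, ‖dot ⊤ (β - Y) (eta ⊤ W1 W2 i k)‖ ^ 2)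
    (fun _ _ => by positivity) (Finset.mem_univ 1)).trans (sum_sq_dot_eta_le hcy (β - Y))
  have h4 := (Finset.sum_le_sum_of_subset_of_nonneg
    (f := fun k => ‖dot ⊤ (β - Y) (eta ⊤ W1 W2 1 k)‖ ^ 2) (Finset.subset_univ {1, j, j⁻¹})
    fun _ _ _ => by positivity).trans h3
  rw [Finset.sum_insert (by simp [hj.symm, hj'.symm]), Finset.sum_pair hne.symm, h2, hn] at h4
  simp only [dot_sub_left, hY, sub_zero] at h4
  rw [cycTIiso1 hcy, h1, hβ] at h4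
  simp only [dot_add_left, dot_sub_left, ha, ha', cfdot_cycTIiso hcy, hj.symm, hj'.symm, hne.symm,
    and_false, if_false, and_self, if_true, zero_sub, sub_zero, zero_add, NormOneClass.norm_one] at h4
  have h5 : ‖(-1 + a : ℂ)‖ ^ 2 = (a - 1 : ℝ) ^ 2 := by
    rw [show (-1 + a : ℂ) = ((a - 1 : ℤ) : ℂ) by push_cast; ring, Complex.norm_intCast, sq_abs]
    push_cast; rfl
  rw [h5, Complex.norm_intCast, sq_abs] at h4
  have h6 : (a : ℝ) ≤ a ^ 2 := by exact_mod_cast Int.le_self_sq a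
  nlinarith

end bridge

variable (hL : IsCoatom L) (h1 : FTtype L = 1)
include hL h1

theorem FTtypeI_coprime : (#MF(L)).Coprime (#W1 * #W2) := FTtypeI_coprime' hS hP hL h1

/-- (13.19)(a) -/
theorem FTtypeI_support_disjoint : Disjoint (dadeSupp MF(L)^# (supportR L))
    (classSupp MF(S) ⊤ ∪ classSupp (W1 ⊔ W2 : Subgroup G) ⊤) := by
  rw [Set.disjoint_left]
  rintro _ ⟨a, ha, r, hr, y, rfl⟩ hg
  have hD := FT_DadeF_hyp hL
  have hc := FTtypeI_coprime hS hP hL h1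
  have h2 : orderOf a ∣ orderOf (y * (a * r) * y⁻¹) := by
    rw [orderOf_conj', Commute.orderOf_mul_eq_mul_orderOf_of_coprime
      (mem_cent1.1 (hD.le_centralizer a ha hr)).symm]
    · exact dvd_mul_right _ _
    · exact ((hD.coprime a ha a ha).coprime_dvd_left (orderOf_dvd_cardG hr)).symm.coprime_dvd_left
        (orderOf_dvd_cardG (A := L ⊓ C1[a]) ⟨hD.subset ha, mem_cent1.2 rfl⟩)
  have h3 : (#MF(L)).Coprime (orderOf (y * (a * r) * y⁻¹)) := by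
    rcases hg with ⟨g, -, b, hb, e⟩ | ⟨g, -, b, hb, e⟩ <;> rw [e, orderOf_conj']
    · refine Nat.Coprime.coprime_dvd_right (orderOf_dvd_cardG hb) ?_
      rw [(FTtypeP_core_abelem hS hP).2]
      exact hc.coprime_mul_left_right.pow_right _
    · exact ((FT_cyclicTI_hyp hP).card_sup ▸ hc).coprime_dvd_right (orderOf_dvd_cardG hb)
  exact ha.2 (orderOf_eq_one_iff.1 (Nat.eq_one_of_dvd_coprimes h3 (orderOf_dvd_cardG ha.1) h2))

theorem FTtypeI_Dade_on {α : G → ℂ} (hα : α ∈ CFon L MF(L)^#) {g : G}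
    (hg : g ∈ classSupp MF(S)^# ⊤ ∪ classSupp (cycV W1 W2) ⊤) : tauM L α g = 0 :=
  (dade_mem_CFon (FT_Dade0_hyp hL) hα).2 g fun h =>
    Set.disjoint_left.1 (FTtypeI_support_disjoint hS hP hL h1)
      (dadeSupp_mono Set.inter_subset_right h) (hg.imp (classSupp_mono (sharp_sub _) le_rfl ·)
        (classSupp_mono (fun _ h => (mem_cycV.1 h).1) le_rfl ·))

theorem FTtypeI_Dade_ortho_bridge {α : G → ℂ} (hα : α ∈ CFon L MF(L)^#) (hj : j ≠ 1) :
    dot ⊤ (tauM L α) (tauM S (bridgeP S W1 W2 j)) = 0 :=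
  dot_eq_zero_of_support fun g _ => (em _).imp (FTtypeI_Dade_on hS hP hL h1 hα)
    ((FTtypeP_Dade_bridge_on hS hP hj).2 g)

variable (hν : CohWith L ⊤ (seqIndD MF(L) L MF(L) ⊥) (tauM L) ν)
  (hφ : φ ∈ seqIndD MF(L) L MF(L) ⊥)
include hν hφ

/-- (13.19)(b) -/
theorem FTtypeI_ortho_eta (i : Dual W1) (j : Dual W2) :
    dot ⊤ (ν φ) (eta ⊤ W1 W2 i j) = 0 := by
  have hcy := FT_cyclicTI_hyp hP
  have hi := FTtype1_Ind_irr hL h1 hφ
  have hd := hν.dirr hφ hi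
  obtain ⟨a1, a2, a3⟩ := coherent_sub_star mFT_odd_top (FT_Dade0_hyp hL) (Fcore_normal L)
    (seqIndD_conjSub le_rfl le_rfl) hν hφ hi
  have h := ortho_eta_of_NC_le hcy (CF_inv (sub_mem hd.mem_CF hd.star.mem_CF))
    (fun v hv => a2 ▸ FTtypeI_Dade_on hS hP hL h1 a1 (Or.inr (sub_classSupp _ _ hv)))
    ((cycTI_NC_sub _ _).trans (add_le_add (cycTI_NC_dirr hcy hd) (cycTI_NC_dirr hcy hd.star))) i j
  by_contra hne
  rw [dot_sub_left, sub_eq_zero] at h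
  have a4 := dot_zero_symm a3
  rcases hd.eq_or_neg_of_dot_ne_zero (cycTIiso_dirr hcy i j) hne with e | e
  · exact hne (by rw [h, ← e, a4])
  · exact hne (by rw [h, ← neg_neg (eta ⊤ W1 W2 i j), ← e, dot_neg_right, a4, neg_zero])

variable (hφ1 : φ 1 = MF(L).relIndex L)
include hφ1

/-- (13.19)(c) -/
theorem FTtypeI_bridge_eq (hj : j ≠ 1) (hk : k ≠ 1) :
    dot ⊤ (tauM L (Ind MF(L) L (one MF(L)) - φ)) (eta ⊤ W1 W2 1 j) =
      dot ⊤ (tauM L (Ind MF(L) L (one MF(L)) - φ)) (eta ⊤ W1 W2 1 k) := by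
  have h := Ind1_sub_lin_on (FT_Dade0_hyp hL) (Fcore_normal L) (Fcore_sub_FTsupp0 hL)
    (seqIndD_subset_seqIndT hφ) hφ1
  rw [← sub_eq_zero, ← dot_sub_right, ← FTtypeP_Dade_bridge_sub hS hP hj hk, dot_sub_right,
    FTtypeI_Dade_ortho_bridge hS hP hL h1 h hj, FTtypeI_Dade_ortho_bridge hS hP hL h1 h hk, sub_self]

theorem FTtypeI_bridge_facts (hj : j ≠ 1) :
    ((∃ n : ℤ, dot ⊤ (tauM S (bridgeP S W1 W2 j)) (ν φ) = 2 * n + 1) ∧
      ((#MF(L) : ℝ) - 1) / MF(L).relIndex L ≤ ((#U - 1) / #W1 : ℕ)) ∨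
    ((∃ n : ℤ, dot ⊤ (tauM L (Ind MF(L) L (one MF(L)) - φ)) (eta ⊤ W1 W2 1 j) = 2 * n + 1) ∧
      #W2 ≤ MF(L).relIndex L) := by
  have hcy := FT_cyclicTI_hyp hP
  have hD := FT_Dade0_hyp hL
  have hH := Fcore_normal L
  have hA := Fcore_sub_FTsupp0 hL
  have hi := FTtype1_Ind_irr hL h1 hφ
  have hT := fun {ξ} (h : ξ ∈ seqIndD MF(L) L MF(L) ⊥) => seqIndD_subset_seqIndT h
  have hon := Ind1_sub_lin_on hD hH hA (hT hφ) hφ1
  obtain ⟨o1, o2, o3, -, Γ, -, g1, -, ⟨a, ha⟩, hb⟩ := Dade_Ind1_sub_lin hD hH hA hν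
    (seqInd_nontrivial hH (mFT_odd L) le_rfl hφ) hi hφ hφ1
  have hreal : star (tauM L (Ind MF(L) L (one MF(L)) - φ) + ν φ) =
      tauM L (Ind MF(L) L (one MF(L)) - φ) + ν φ := by
    have := (coherent_sub_star mFT_odd_top hD hH (seqIndD_conjSub le_rfl le_rfl) hν hφ hi).2.1
    rw [star_add, ← Dade_star, star_sub, ← Ind_star, star_one']
    simp only [map_sub] at this ⊢
    linear_combination this
  have heta := fun ξ (hξ : ξ ∈ seqIndD MF(L) L MF(L) ⊥) => FTtypeI_ortho_eta hS hP hL h1 hν hξ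
  obtain ⟨n, hn⟩ := cfdot_real_vchar_even (mFT_odd ⊤) (FTtypeP_gap_vchar hS hP hj)
    (FTtypeP_gap_real hS hP hj) (add_mem o3 (hν.mem hφ)) hreal
  obtain ⟨b, hb1⟩ := ZIrr_dot_int (FTtypeP_Dade_bridge_vchar hS hP hj) (hν.mem hφ)
  obtain ⟨c, hc⟩ := ZIrr_dot_int o3 (cycTIiso_vchar hcy 1 j)
  have hgap : ∀ ξ ∈ seqIndD MF(L) L MF(L) ⊥, dot ⊤ (bridgeGap S W1 W2 j) (ν ξ) =
      dot ⊤ (tauM S (bridgeP S W1 W2 j)) (ν ξ) := fun ξ hξ => by
    rw [bridgeGap, dot_add_left, dot_sub_left, dot_zero_symm (o1 ξ hξ),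
      dot_zero_symm (heta ξ hξ 1 j), sub_zero, add_zero]
  rw [FTtypeP_gap_one hS hP hj, dot_add_right, hgap φ hφ, hb1, bridgeGap, dot_add_left, dot_sub_left,
    dot_zero_symm (FTtypeI_Dade_ortho_bridge hS hP hL h1 hon hj), ← conj_dot, o2, ← conj_dot, hc,
    map_one, map_intCast] at hn
  have hn' : c + b = 2 * n + 1 := by
    have : (c + b : ℂ) = 2 * n + 1 := by linear_combination hn
    exact_mod_cast this
  have sq1 : ∀ {b m : ℤ}, b = 2 * m + 1 → (1 : ℝ) ≤ (b : ℝ) ^ 2 := fun {b m} h => by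
    exact_mod_cast (one_le_sq_iff_one_le_abs b).2 (Int.one_le_abs (by omega))
  rcases Int.even_or_odd' b with ⟨m, hm | hm⟩
  · have hc' : c = 2 * (n - m) + 1 := by omega
    refine Or.inr ⟨⟨n - m, by rw [hc, hc']; push_cast; rfl⟩, ?_⟩
    have h3 := (hb ((FTtype1_Frobenius hL h1).two_mul_relIndex_lt (mFT_odd L))).2
    have h4 : ∀ k ∈ Finset.univ.erase (1 : Dual W2),
        (1 : ℝ) ≤ ‖dot ⊤ Γ (eta ⊤ W1 W2 1 k)‖ ^ 2 := fun k hk => by
      have hk := (Finset.mem_erase.1 hk).1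
      have := FTtypeI_bridge_eq hS hP hL h1 hν hφ hφ1 hj hk
      rw [hc, ha, dot_add_left, dot_add_left, dot_sub_left, dot_smul_left, dot_sum_left,
        heta φ hφ, Finset.sum_eq_zero fun ξ hξ => by rw [dot_smul_left, heta ξ hξ, mul_zero],
        ← cycTIiso1 hcy, cfdot_cycTIiso hcy, if_neg fun h => hk h.2.symm] at this
      simp only [sub_zero, mul_zero, add_zero, zero_add] at this
      rw [← this, Complex.norm_intCast, sq_abs]
      exact sq1 hc'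
    have h5 := (Finset.sum_le_sum h4).trans ((Finset.sum_le_sum_of_subset_of_nonneg
      (Finset.subset_univ _) fun _ _ _ => by positivity).trans ((Finset.single_le_sum
        (f := fun i => ∑ k, ‖dot ⊤ Γ (eta ⊤ W1 W2 i k)‖ ^ 2) (fun _ _ => by positivity)
          (Finset.mem_univ 1)).trans ((sum_sq_dot_eta_le hcy Γ).trans h3)))
    rw [Finset.sum_const, Finset.card_erase_of_mem (Finset.mem_univ _), Finset.card_univ,
      hcy.card_Dual2, nsmul_eq_mul, mul_one, Nat.cast_sub (cardG_pos _), Nat.cast_one,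
      sub_le_sub_iff_right] at h5
    exact_mod_cast h5
  · refine Or.inl ⟨⟨m, by rw [hb1, hm]; push_cast; rfl⟩, ?_⟩
    set σ := ∑ ξ ∈ seqIndD MF(L) L MF(L) ⊥, (ξ 1 / MF(L).relIndex L / nrm L ξ) • ν ξ with hσ
    have h3 := FTtypeP_gap_bound hS hP hj (X := bridgeGap S W1 W2 j - (b : ℂ) • σ) (Y := (b : ℂ) • σ)
      (sub_add_cancel _ _).symm (by
        rw [dot_smul_right, hσ, dot_sum_right, Finset.sum_eq_zero, mul_zero]
        intro ξ hξ
        have := dot_zero_symm (FTtypeI_Dade_ortho_bridge hS hP hL h1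
          (sub_smul_mem_CFon_sharp hH (hT hξ) (hT hφ)) hj)
        obtain ⟨d, hd⟩ := seqInd_ratio_nat hH (hT hξ)
        rw [coherent_sub_ratio hH hν hφ hφ1 hξ, dot_sub_right, dot_smul_right, hb1, hd, map_natCast,
          sub_eq_zero] at this
        rw [dot_smul_right, dot_sub_left, dot_smul_left, coherent_sum_ratio_dot hH hν hξ, hgap ξ hξ,
          this, hd]
        ring)
      fun i k => by
        rw [dot_smul_left, hσ, dot_sum_left, Finset.sum_eq_zero fun ξ hξ => by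
          rw [dot_smul_left, heta ξ hξ, mul_zero], mul_zero]
    rw [nrm_intCast_smul, coherent_sum_ratio_nrm hH hν] at h3
    refine le_trans (le_mul_of_one_le_left (div_nonneg ?_ (by positivity)) (sq1 hm)) h3
    exact sub_nonneg.2 (by exact_mod_cast cardG_pos _)

end Cfsg.Agent.PF
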